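import Mathlib
import Groth.Prelude.Def_Smoothing

set_option autoImplicit false
universe u
open MvPolynomial

namespace Groth.Agent.H8.StdEl

section Taylor
variable {R : Type*} [CommRing R] {σ : Type*} [Fintype σ] [DecidableEq σ]

theorem taylor_sq_zero {T : Type*} [CommRing T] [Algebra R T] (u v : MvPolynomial σ R →ₐ[R] T)
    (h : ∀ i j, (u (X i) - v (X i)) * (u (X j) - v (X j)) = 0) (p : MvPolynomial σ R) :
    u p - v p = ∑ i, u (pderiv i p) * (u (X i) - v (X i)) := by
  induction p using MvPolynomial.induction_on with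
  | C a =>
    have h1 : u (C a) = v (C a) := by
      rw [← MvPolynomial.algebraMap_eq, u.commutes, v.commutes]
    rw [h1, sub_self]
    symm
    refine Finset.sum_eq_zero fun i _ => ?_
    rw [pderiv_C, map_zero, zero_mul]
  | add p q hp hq =>
    simp only [map_add, add_mul, Finset.sum_add_distrib, ← hp, ← hq]; ring
  | mul_X p j hp =>
    have h2 : (u p - v p) * (u (X j) - v (X j)) = 0 := by
      rw [hp, Finset.sum_mul]
      exact Finset.sum_eq_zero fun i _ => by rw [mul_assoc, h i j, mul_zero]
    have h1 : ∀ i, u (pderiv i (p * X j)) * (u (X i) - v (X i)) =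
        u (X j) * (u (pderiv i p) * (u (X i) - v (X i))) +
          if i = j then u p * (u (X j) - v (X j)) else 0 := by
      intro i
      rw [Derivation.leibniz, pderiv_X]
      by_cases hij : i = j
      · subst hij
        simp only [Pi.single_eq_same, smul_eq_mul, map_add, map_mul, map_one, mul_one, if_true]
        ring
      · have h0 : (Pi.single (M := fun _ : σ => MvPolynomial σ R) i 1 j) = 0 := by
          rw [Pi.single_apply, if_neg (Ne.symm hij)]
        rw [h0, smul_zero, zero_add, smul_eq_mul, map_mul, if_neg hij, add_zero]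
        ring
    rw [Finset.sum_congr rfl fun i _ => h1 i, Finset.sum_add_distrib, ← Finset.mul_sum, ← hp,
      Finset.sum_ite_eq' Finset.univ j, if_pos (Finset.mem_univ j), map_mul, map_mul]
    linear_combination (-1 : T) * h2

end Taylor

section LinAlg

theorem exists_minor {κ : Type*} [Field κ] {m n : ℕ} (w : Fin m → Fin n → κ) :
    ∃ (c : ℕ) (rows : Fin c ↪ Fin m) (cols : Fin c ↪ Fin n),
      (Matrix.of fun j k => w (rows j) (cols k)).det ≠ 0 ∧
      ∀ ℓ, w ℓ ∈ Submodule.span κ (Set.range (w ∘ rows)) := by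
  classical
  obtain ⟨ι₁, a, ha, hspan, hli⟩ := exists_linearIndependent' κ w
  haveI : Finite ι₁ := Finite.of_injective a ha
  haveI := Fintype.ofFinite ι₁
  obtain ⟨c, hc⟩ : ∃ c, c = Fintype.card ι₁ := ⟨_, rfl⟩
  let e₁ : Fin c ≃ ι₁ := (Fintype.equivFinOfCardEq hc.symm).symm
  let rows : Fin c ↪ Fin m := ⟨a ∘ e₁, ha.comp e₁.injective⟩
  let M : Matrix (Fin c) (Fin n) κ := Matrix.of fun j k => w (rows j) k
  have hMrow : LinearIndependent κ M.row := by
    have : M.row = (w ∘ a) ∘ e₁ := by ext j k; rfl
    rw [this]; exact hli.comp _ e₁.injective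
  have hrank : M.rank = c := by rw [hMrow.rank_matrix, Fintype.card_fin]
  obtain ⟨ι₂, b, hb, hspan₂, hli₂⟩ := exists_linearIndependent' κ M.col
  haveI : Finite ι₂ := Finite.of_injective b hb
  haveI := Fintype.ofFinite ι₂
  have hcard : Fintype.card ι₂ = c := by
    have h1 := linearIndependent_iff_card_eq_finrank_span.mp hli₂
    rw [h1, Set.finrank, hspan₂, ← Matrix.rank_eq_finrank_span_cols, hrank]
  let e₂ : Fin c ≃ ι₂ := (Fintype.equivFinOfCardEq hcard).symm
  let cols : Fin c ↪ Fin n := ⟨b ∘ e₂, hb.comp e₂.injective⟩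
  refine ⟨c, rows, cols, ?_, ?_⟩
  · let N : Matrix (Fin c) (Fin c) κ := Matrix.of fun j k => w (rows j) (cols k)
    have hNcol : LinearIndependent κ N.col := by
      have : N.col = (M.col ∘ b) ∘ e₂ := by ext k j; rfl
      rw [this]; exact hli₂.comp _ e₂.injective
    have := Matrix.linearIndependent_cols_iff_isUnit.mp hNcol
    exact ((Matrix.isUnit_iff_isUnit_det N).mp this).ne_zero
  · intro ℓ
    have h1 : w ℓ ∈ Submodule.span κ (Set.range w) := Submodule.subset_span ⟨ℓ, rfl⟩
    rw [← hspan] at h1
    have hr : Set.range (w ∘ rows) = Set.range (w ∘ a) := by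
      show Set.range ((w ∘ a) ∘ e₁) = _
      exact e₁.surjective.range_comp _
    rw [hr]; exact h1

end LinAlg

end Groth.Agent.H8.StdEl
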