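import Mathlib
import Groth.Prelude.Def_Smoothing
import Groth.Agent.Lib.Helper8.StdEl.A

set_option autoImplicit false
universe u
open MvPolynomial

namespace Groth.Agent.H8.StdEl

theorem exists_section_aux {R T₀ A T B : Type*} [CommRing R] [CommRing T₀] [CommRing A] [CommRing T]
    [CommRing B] [Algebra R T₀] [Algebra R A] [Algebra R T] [Algebra R B] [Algebra T₀ T] [Algebra A B]
    [IsScalarTower R T₀ T] [IsScalarTower R A B]
    (ψ₀ : T₀ →ₐ[R] A) (hψ₀ : Function.Surjective ψ₀) (q : Ideal A) [q.IsPrime] (𝔔 : Ideal T₀)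
    [𝔔.IsPrime] (h𝔔 : ∀ y, y ∈ 𝔔 ↔ ψ₀ y ∈ q) [IsLocalization.AtPrime T 𝔔]
    [IsLocalization.AtPrime B q] [Algebra.FormallySmooth R B]
    (hK : ∀ a b : T₀, a ∈ 𝔔 → ψ₀ b = 0 → a * b = 0) :
    ∃ σ' : A →ₐ[R] T,
      (∀ x y : T₀, (algebraMap T₀ T x - σ' (ψ₀ x)) * (algebraMap T₀ T y - σ' (ψ₀ y)) = 0) ∧
      ∀ d ∈ 𝔔, ∀ x : T₀, algebraMap T₀ T d * (algebraMap T₀ T x - σ' (ψ₀ x)) = 0 := by
  classical
  have hunit : ∀ y : 𝔔.primeCompl, IsUnit (((IsScalarTower.toAlgHom R A B).comp ψ₀) y) := fun y =>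
    IsLocalization.map_units B (⟨ψ₀ y, fun h => y.2 ((h𝔔 _).mpr h)⟩ : q.primeCompl)
  let π : T →ₐ[R] B := IsLocalization.liftAlgHom (M := 𝔔.primeCompl) (S := T) hunit
  have hπ : ∀ x : T₀, π (algebraMap T₀ T x) = algebraMap A B (ψ₀ x) :=
    fun x => IsLocalization.lift_eq _ x
  have hπsurj : Function.Surjective π := by
    intro b
    obtain ⟨a, s, rfl⟩ := IsLocalization.exists_mk'_eq q.primeCompl b
    obtain ⟨pa, rfl⟩ := hψ₀ a
    obtain ⟨ps, hps⟩ := hψ₀ (s : A)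
    have hs𝔔 : ps ∈ 𝔔.primeCompl := by
      show ¬ (_ ∈ 𝔔)
      rw [h𝔔, hps]; exact s.2
    refine ⟨IsLocalization.mk' T pa ⟨_, hs𝔔⟩, ?_⟩
    rw [IsLocalization.eq_mk'_iff_mul_eq, ← hps, ← hπ, ← map_mul]
    have := IsLocalization.mk'_spec T pa (⟨_, hs𝔔⟩ : 𝔔.primeCompl)
    rw [this, hπ]
  have hker : ∀ x : T, π x = 0 → ∃ (k : T₀) (t : T), ψ₀ k = 0 ∧ x = t * algebraMap T₀ T k := by
    intro x hx
    obtain ⟨y, s, rfl⟩ := IsLocalization.exists_mk'_eq 𝔔.primeCompl x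
    have h1 : algebraMap A B (ψ₀ y) = 0 := by
      have h2 := congrArg (· * π (algebraMap T₀ T (s : T₀))) hx
      simp only [zero_mul, ← map_mul, IsLocalization.mk'_spec] at h2
      rw [hπ] at h2; exact h2
    obtain ⟨cA, hcA⟩ := (IsLocalization.map_eq_zero_iff q.primeCompl _ (ψ₀ y)).mp h1
    obtain ⟨pc, hpc⟩ := hψ₀ (cA : A)
    have hpc𝔔 : pc ∈ 𝔔.primeCompl := by
      show ¬ (_ ∈ 𝔔)
      rw [h𝔔, hpc]; exact cA.2
    obtain ⟨w, hw⟩ := (IsLocalization.map_units T (⟨_, hpc𝔔⟩ : 𝔔.primeCompl)).exists_left_inv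
    refine ⟨pc * y, w * IsLocalization.mk' T 1 s, by rw [map_mul, hpc]; exact hcA, ?_⟩
    rw [map_mul]
    have h3 : IsLocalization.mk' T y s = algebraMap T₀ T y * IsLocalization.mk' T 1 s := by
      rw [IsLocalization.mul_mk'_eq_mk'_of_mul, mul_one]
    rw [h3]
    have h4 : w * algebraMap T₀ T pc = 1 := hw
    linear_combination (-(algebraMap T₀ T y * IsLocalization.mk' T 1 s)) * h4
  have hNN : ∀ x y : T, π x = 0 → π y = 0 → x * y = 0 := by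
    intro x y hx hy
    obtain ⟨px, tx, hpx, rfl⟩ := hker x hx
    obtain ⟨py, ty, hpy, rfl⟩ := hker y hy
    have h0 : px * py = 0 := hK px py ((h𝔔 _).mpr (by rw [hpx]; exact q.zero_mem)) hpy
    have := congrArg (algebraMap T₀ T) h0
    rw [map_mul, map_zero] at this
    linear_combination (tx * ty) * this
  have hQN : ∀ (d : T₀) (x : T), d ∈ 𝔔 → π x = 0 → algebraMap T₀ T d * x = 0 := by
    intro d x hd hx
    obtain ⟨px, tx, hpx, rfl⟩ := hker x hx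
    have := congrArg (algebraMap T₀ T) (hK d px hd hpx)
    rw [map_mul, map_zero] at this
    linear_combination tx * this
  have hnil : IsNilpotent (RingHom.ker (π : T →+* B)) := by
    refine ⟨2, ?_⟩
    rw [pow_two, Ideal.zero_eq_bot, eq_bot_iff, Ideal.mul_le]
    intro x hx y hy
    rw [Ideal.mem_bot]; exact hNN x y hx hy
  let σ : B →ₐ[R] T := Algebra.FormallySmooth.liftOfSurjective (AlgHom.id R _) π hπsurj hnil
  have hσ : ∀ b, π (σ b) = b := fun b =>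
    Algebra.FormallySmooth.liftOfSurjective_apply _ _ _ _ b
  have hδ : ∀ x : T₀, π (algebraMap T₀ T x - σ (algebraMap A B (ψ₀ x))) = 0 := fun x => by
    rw [map_sub, hσ, hπ, sub_self]
  refine ⟨σ.comp (IsScalarTower.toAlgHom R A B), fun x y => hNN _ _ (hδ x) (hδ y),
    fun d hd x => hQN d _ hd (hδ x)⟩

theorem taylor_aux {R T₀ A T B : Type*} [CommRing R] [CommRing T₀] [CommRing A] [CommRing T]
    [CommRing B] [Algebra R T₀] [Algebra R A] [Algebra R T] [Algebra R B] [Algebra T₀ T] [Algebra A B]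
    [IsScalarTower R T₀ T] [IsScalarTower R A B]
    (ψ₀ : T₀ →ₐ[R] A) (hψ₀ : Function.Surjective ψ₀) (q : Ideal A) [q.IsPrime] (𝔔 : Ideal T₀)
    [𝔔.IsPrime] (h𝔔 : ∀ y, y ∈ 𝔔 ↔ ψ₀ y ∈ q) [IsLocalization.AtPrime T 𝔔]
    [IsLocalization.AtPrime B q] [Algebra.FormallySmooth R B]
    (hK : ∀ a b : T₀, a ∈ 𝔔 → ψ₀ b = 0 → a * b = 0) {n : ℕ}
    (u₀ : MvPolynomial (Fin n) R →ₐ[R] T₀) (p : MvPolynomial (Fin n) R)
    (hp : ψ₀ (u₀ p) = 0) (hd : ∀ i, u₀ (pderiv i p) ∈ 𝔔) :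
    algebraMap T₀ T (u₀ p) = 0 := by
  obtain ⟨σ', h1, h2⟩ := exists_section_aux (T := T) (B := B) ψ₀ hψ₀ q 𝔔 h𝔔 hK
  let u : MvPolynomial (Fin n) R →ₐ[R] T := (IsScalarTower.toAlgHom R T₀ T).comp u₀
  let v : MvPolynomial (Fin n) R →ₐ[R] T := σ'.comp (ψ₀.comp u₀)
  have hu : ∀ x, u x = algebraMap T₀ T (u₀ x) := fun x => rfl
  have hv : ∀ x, v x = σ' (ψ₀ (u₀ x)) := fun x => rfl
  have htaylor := taylor_sq_zero u v (fun i j => by rw [hu, hu, hv, hv]; exact h1 _ _) p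
  have hvp : v p = 0 := by rw [hv, hp, map_zero]
  rw [hvp, sub_zero] at htaylor
  rw [← hu, htaylor]
  refine Finset.sum_eq_zero fun i _ => ?_
  rw [hu, hu, hv]; exact h2 _ (hd i) _

section KeyInj
variable {R A : Type u} [CommRing R] [CommRing A] [Algebra R A] {n : ℕ}

theorem exists_smul_mem_mul (φ : MvPolynomial (Fin n) R →ₐ[R] A) (hφ : Function.Surjective φ)
    (q : Ideal A) [q.IsPrime] [Algebra.IsSmoothAt R q]
    (Q I : Ideal (MvPolynomial (Fin n) R)) (hQ : ∀ x, x ∈ Q ↔ φ x ∈ q) (hI : ∀ x, x ∈ I ↔ φ x = 0)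
    (p : MvPolynomial (Fin n) R) (hp : p ∈ I) (hd : ∀ i, pderiv i p ∈ Q) :
    ∃ s : MvPolynomial (Fin n) R, s ∉ Q ∧ s * p ∈ Q * I := by
  classical
  let ψ₀ : (MvPolynomial (Fin n) R ⧸ (Q * I)) →ₐ[R] A :=
    Ideal.Quotient.liftₐ (Q * I) φ (fun x hx => (hI x).mp (Ideal.mul_le_right hx))
  have hψ₀ : ∀ x, ψ₀ (Ideal.Quotient.mk _ x) = φ x := fun x => rfl
  have hψ₀surj : Function.Surjective ψ₀ := fun a => by
    obtain ⟨x, rfl⟩ := hφ a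
    exact ⟨Ideal.Quotient.mk _ x, rfl⟩
  obtain ⟨𝔔, h𝔔def⟩ : ∃ 𝔔 : Ideal (MvPolynomial (Fin n) R ⧸ (Q * I)), 𝔔 = q.comap ψ₀.toRingHom :=
    ⟨_, rfl⟩
  haveI h𝔔prime : 𝔔.IsPrime := by rw [h𝔔def]; exact Ideal.comap_isPrime _ _
  have h𝔔mem' : ∀ y, y ∈ 𝔔 ↔ ψ₀ y ∈ q := fun y => by rw [h𝔔def]; exact Iff.rfl
  have h𝔔mem : ∀ x, Ideal.Quotient.mk (Q * I) x ∈ 𝔔 ↔ x ∈ Q := fun x => by
    rw [h𝔔mem', hQ, hψ₀]
  have hK : ∀ a b : MvPolynomial (Fin n) R ⧸ (Q * I), a ∈ 𝔔 → ψ₀ b = 0 → a * b = 0 := by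
    intro a b ha hb
    obtain ⟨a, rfl⟩ := Ideal.Quotient.mk_surjective a
    obtain ⟨b, rfl⟩ := Ideal.Quotient.mk_surjective b
    rw [← map_mul, Ideal.Quotient.eq_zero_iff_mem]
    exact Ideal.mul_mem_mul ((h𝔔mem a).mp ha) ((hI b).mpr hb)
  have hup := taylor_aux (T := Localization.AtPrime 𝔔) (B := Localization.AtPrime q) ψ₀ hψ₀surj q 𝔔
    h𝔔mem' hK (Ideal.Quotient.mkₐ R (Q * I)) p ((hI p).mp hp) (fun i => (h𝔔mem _).mpr (hd i))
  obtain ⟨c, hc⟩ := (IsLocalization.map_eq_zero_iff 𝔔.primeCompl _ _).mp hup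
  obtain ⟨s, hs⟩ := Ideal.Quotient.mk_surjective (c : _ ⧸ (Q * I))
  refine ⟨s, ?_, ?_⟩
  · have := c.2
    rw [← hs] at this
    exact fun h => this ((h𝔔mem s).mpr h)
  · rw [← hs] at hc
    have hc' : Ideal.Quotient.mk (Q * I) (s * p) = 0 := by rw [map_mul]; exact hc
    exact Ideal.Quotient.eq_zero_iff_mem.mp hc'

end KeyInj

end Groth.Agent.H8.StdEl
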