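import Mathlib
import Groth.Prelude.Def_Smoothing
import Groth.Agent.Lib.Helper8.StdEl.B

set_option autoImplicit false
universe u
open MvPolynomial

namespace Groth.Agent.H8.StdEl

theorem common_denom {P κ : Type*} [CommRing P] [Field κ] (Q : Ideal P) [Q.IsPrime] (ι : P →+* κ)
    (hfrac : ∀ z : κ, ∃ d r : P, d ∉ Q ∧ ι d * z = ι r) {c : ℕ} (lam : Fin c → κ) :
    ∃ (d : P) (r : Fin c → P), d ∉ Q ∧ ∀ j, ι d * lam j = ι (r j) := by
  classical
  choose d r hd hr using fun j => hfrac (lam j)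
  refine ⟨∏ j, d j, fun j => r j * ∏ j' ∈ Finset.univ.erase j, d j', ?_, ?_⟩
  · intro h
    obtain ⟨j, -, hj⟩ := (Ideal.IsPrime.prod_mem_iff).mp h
    exact hd j hj
  · intro j
    rw [← Finset.mul_prod_erase Finset.univ d (Finset.mem_univ j)]
    simp only [map_mul]
    rw [mul_right_comm, hr]

/-- The linear algebra step, over an abstract residue field. -/
theorem step_aux {R : Type*} [CommRing R] {n m : ℕ} (f : Fin m → MvPolynomial (Fin n) R)
    (Q I : Ideal (MvPolynomial (Fin n) R)) [Q.IsPrime] (hfI : ∀ ℓ, f ℓ ∈ I) (hIQ : I ≤ Q)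
    {κ : Type*} [Field κ] (ι : MvPolynomial (Fin n) R →+* κ) (hι : ∀ x, ι x = 0 ↔ x ∈ Q)
    (hfrac : ∀ z : κ, ∃ d r : MvPolynomial (Fin n) R, d ∉ Q ∧ ι d * z = ι r) :
    ∃ (c : ℕ) (rows : Fin c ↪ Fin m) (cols : Fin c ↪ Fin n),
      Smoothing.jacobianMinor f rows cols ∉ Q ∧
      ∀ ℓ, ∃ (d : MvPolynomial (Fin n) R) (r : Fin c → MvPolynomial (Fin n) R), d ∉ Q ∧
        ∀ i, pderiv i (d * f ℓ - ∑ j, r j * f (rows j)) ∈ Q := by
  classical
  let w : Fin m → Fin n → κ := fun j i => ι (pderiv i (f j))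
  obtain ⟨c, rows, cols, hdet, hspan⟩ := exists_minor w
  refine ⟨c, rows, cols, ?_, ?_⟩
  · rw [← hι]
    show ι (Matrix.det _) ≠ 0
    rw [RingHom.map_det]
    convert hdet using 2
    ext j k
    rfl
  · intro ℓ
    obtain ⟨lam, hlam⟩ := (Submodule.mem_span_range_iff_exists_fun κ).mp (hspan ℓ)
    obtain ⟨d, r, hdQ, hr⟩ := common_denom Q ι hfrac lam
    refine ⟨d, r, hdQ, fun i => ?_⟩
    rw [← hι]
    have h1 : pderiv i (d * f ℓ - ∑ j, r j * f (rows j)) =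
        (d * pderiv i (f ℓ) - ∑ j, r j * pderiv i (f (rows j))) +
          (f ℓ * pderiv i d - ∑ j, f (rows j) * pderiv i (r j)) := by
      simp only [map_sub, map_sum, Derivation.leibniz, smul_eq_mul, Finset.sum_add_distrib]
      ring
    rw [h1, map_add]
    have h2 : ι (f ℓ * pderiv i d - ∑ j, f (rows j) * pderiv i (r j)) = 0 := by
      rw [hι]
      exact Q.sub_mem (Q.mul_mem_right _ (hIQ (hfI ℓ)))
        (Q.sum_mem fun j _ => Q.mul_mem_right _ (hIQ (hfI _)))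
    rw [h2, add_zero, map_sub, map_mul, map_sum]
    simp only [map_mul, ← hr]
    have h3 := congrFun hlam i
    simp only [Finset.sum_apply, Pi.smul_apply, smul_eq_mul, Function.comp] at h3
    show ι d * w ℓ i - ∑ j, ι d * lam j * w (rows j) i = 0
    rw [← h3, Finset.mul_sum]
    simp only [mul_assoc]
    exact sub_self _

theorem nakayama_aux {P : Type*} [CommRing P] (Q I Ic : Ideal P) [Q.IsPrime] {m : ℕ} (f : Fin m → P)
    (hIdef : I = Ideal.span (Set.range f))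
    (hstep : ∀ ℓ, ∃ s : P, s ∉ Q ∧ s * f ℓ ∈ Ic ⊔ Q * I) :
    ∀ ℓ, ∃ t : P, t ∉ Q ∧ t * f ℓ ∈ Ic := by
  have hfI : ∀ ℓ, f ℓ ∈ I := fun ℓ => by rw [hIdef]; exact Ideal.subset_span ⟨ℓ, rfl⟩
  have hIFG : I.FG := by rw [hIdef]; exact Submodule.fg_span (Set.finite_range f)
  have hle : I.map (algebraMap P (Localization.AtPrime Q)) ≤
      Ic.map (algebraMap P (Localization.AtPrime Q)) := by
    refine Submodule.le_of_le_smul_of_le_jacobson_bot
      (I := IsLocalRing.maximalIdeal (Localization.AtPrime Q)) (Ideal.FG.map hIFG _)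
      (IsLocalRing.maximalIdeal_le_jacobson _) ?_
    conv_lhs => rw [hIdef, Ideal.map_span]
    rw [Ideal.span_le]
    rintro _ ⟨_, ⟨ℓ, rfl⟩, rfl⟩
    obtain ⟨s, hsQ, hs⟩ := hstep ℓ
    have hu : IsUnit (algebraMap P (Localization.AtPrime Q) s) :=
      IsLocalization.map_units (Localization.AtPrime Q) (⟨s, hsQ⟩ : Q.primeCompl)
    obtain ⟨s', hs'⟩ := hu.exists_left_inv
    have h1 : algebraMap P (Localization.AtPrime Q) (s * f ℓ) ∈
        Ic.map (algebraMap P (Localization.AtPrime Q)) ⊔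
          IsLocalRing.maximalIdeal (Localization.AtPrime Q) •
            I.map (algebraMap P (Localization.AtPrime Q)) := by
      have := Ideal.mem_map_of_mem (algebraMap P (Localization.AtPrime Q)) hs
      rw [Ideal.map_sup, Ideal.map_mul, Localization.AtPrime.map_eq_maximalIdeal] at this
      exact this
    have h2 : algebraMap P (Localization.AtPrime Q) (f ℓ) =
        s' * algebraMap P (Localization.AtPrime Q) (s * f ℓ) := by
      rw [map_mul, ← mul_assoc, hs', one_mul]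
    rw [SetLike.mem_coe, h2]
    exact Ideal.mul_mem_left _ _ h1
  intro ℓ
  have h1 : algebraMap P (Localization.AtPrime Q) (f ℓ) ∈
      Ic.map (algebraMap P (Localization.AtPrime Q)) := hle (Ideal.mem_map_of_mem _ (hfI ℓ))
  obtain ⟨⟨⟨i, hi⟩, t⟩, ht⟩ :=
    (IsLocalization.mem_map_algebraMap_iff Q.primeCompl (Localization.AtPrime Q)).mp h1
  rw [← map_mul] at ht
  obtain ⟨t', ht'⟩ := (IsLocalization.eq_iff_exists Q.primeCompl (Localization.AtPrime Q)).mp ht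
  refine ⟨t' * t, fun h => (Ideal.IsPrime.mem_or_mem ‹_› h).elim t'.2 t.2, ?_⟩
  have : (t' : P) * t * f ℓ = t' * i := by
    have := ht'
    simp only at this
    rw [← this]; ring
  rw [this]; exact Ideal.mul_mem_left _ _ hi

theorem main {R A : Type u} [CommRing R] [CommRing A] [Algebra R A] {n m : ℕ}
    (f : Fin m → MvPolynomial (Fin n) R) (φ : MvPolynomial (Fin n) R →ₐ[R] A)
    (hφ : Function.Surjective φ)
    (hker : RingHom.ker φ.toRingHom = Ideal.span (Set.range f)) (q : Ideal A) [q.IsPrime]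
    [Algebra.IsSmoothAt R q] :
    ∃ a : A, a ∉ q ∧ ∃ (c : ℕ) (rows : Fin c ↪ Fin m) (cols : Fin c ↪ Fin n) (a' : A),
      a = a' * φ (Smoothing.jacobianMinor f rows cols) ∧
      ∀ a₁ : MvPolynomial (Fin n) R, φ a₁ = a → ∀ ℓ : Fin m,
        a₁ * f ℓ ∈ Ideal.span (Set.range (f ∘ rows)) ⊔ Ideal.span (Set.range f) ^ 2 := by
  classical
  obtain ⟨Q, hQdef⟩ : ∃ Q : Ideal (MvPolynomial (Fin n) R), Q = q.comap φ.toRingHom := ⟨_, rfl⟩
  have hQmem : ∀ x, x ∈ Q ↔ φ x ∈ q := fun x => by rw [hQdef]; exact Iff.rfl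
  haveI hQprime : Q.IsPrime := by rw [hQdef]; exact Ideal.comap_isPrime _ _
  obtain ⟨I, hIdef⟩ : ∃ I : Ideal (MvPolynomial (Fin n) R), I = Ideal.span (Set.range f) :=
    ⟨_, rfl⟩
  have hImem : ∀ x, x ∈ I ↔ φ x = 0 := fun x => by rw [hIdef, ← hker]; exact Iff.rfl
  have hfI : ∀ ℓ, f ℓ ∈ I := fun ℓ => by rw [hIdef]; exact Ideal.subset_span ⟨ℓ, rfl⟩
  have hIQ : I ≤ Q := fun x hx => (hQmem x).mpr (by rw [(hImem x).mp hx]; exact q.zero_mem)
  -- the residue field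
  let ι : MvPolynomial (Fin n) R →+* FractionRing (MvPolynomial (Fin n) R ⧸ Q) :=
    (algebraMap (MvPolynomial (Fin n) R ⧸ Q) (FractionRing (MvPolynomial (Fin n) R ⧸ Q))).comp
      (Ideal.Quotient.mk Q)
  have hι : ∀ x, ι x = 0 ↔ x ∈ Q := fun x => by
    show algebraMap (MvPolynomial (Fin n) R ⧸ Q) _ (Ideal.Quotient.mk Q x) = 0 ↔ _
    rw [IsFractionRing.to_map_eq_zero_iff, Ideal.Quotient.eq_zero_iff_mem]
  have hfrac : ∀ z : FractionRing (MvPolynomial (Fin n) R ⧸ Q),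
      ∃ d r : MvPolynomial (Fin n) R, d ∉ Q ∧ ι d * z = ι r := by
    intro z
    obtain ⟨x, y, rfl⟩ := IsLocalization.exists_mk'_eq (nonZeroDivisors (MvPolynomial (Fin n) R ⧸ Q)) z
    obtain ⟨r, rfl⟩ := Ideal.Quotient.mk_surjective x
    obtain ⟨d, hd⟩ := Ideal.Quotient.mk_surjective (y : MvPolynomial (Fin n) R ⧸ Q)
    refine ⟨d, r, fun h => ?_, ?_⟩
    · have h0 : (y : MvPolynomial (Fin n) R ⧸ Q) = 0 := by
        rw [← hd]; exact Ideal.Quotient.eq_zero_iff_mem.mpr h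
      exact nonZeroDivisors.coe_ne_zero y h0
    · show algebraMap (MvPolynomial (Fin n) R ⧸ Q) (FractionRing (MvPolynomial (Fin n) R ⧸ Q))
          (Ideal.Quotient.mk Q d) * _ = algebraMap (MvPolynomial (Fin n) R ⧸ Q)
          (FractionRing (MvPolynomial (Fin n) R ⧸ Q)) (Ideal.Quotient.mk Q r)
      rw [hd]
      exact IsLocalization.mk'_spec' _ _ _
  obtain ⟨c, rows, cols, hΔ, hlin⟩ := step_aux f Q I hfI hIQ ι hι hfrac
  have hstep : ∀ ℓ, ∃ s : MvPolynomial (Fin n) R, s ∉ Q ∧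
      s * f ℓ ∈ Ideal.span (Set.range (f ∘ rows)) ⊔ Q * I := by
    intro ℓ
    obtain ⟨d, r, hdQ, hpd⟩ := hlin ℓ
    have hpI : d * f ℓ - ∑ j, r j * f (rows j) ∈ I :=
      I.sub_mem (I.mul_mem_left _ (hfI ℓ)) (I.sum_mem fun j _ => I.mul_mem_left _ (hfI _))
    obtain ⟨s, hsQ, hsp⟩ := exists_smul_mem_mul φ hφ q Q I hQmem hImem _ hpI hpd
    refine ⟨s * d, fun h => (hQprime.mem_or_mem h).elim hsQ hdQ, ?_⟩
    have h1 : s * d * f ℓ = ∑ j, (s * r j) * f (rows j) +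
        s * (d * f ℓ - ∑ j, r j * f (rows j)) := by
      simp only [mul_sub, Finset.mul_sum, mul_assoc]; ring
    rw [h1]
    exact Ideal.add_mem _ (Ideal.mem_sup_left (Ideal.sum_mem _ fun j _ =>
      Ideal.mul_mem_left _ _ (Ideal.subset_span ⟨j, rfl⟩))) (Ideal.mem_sup_right hsp)
  have hloc := nakayama_aux Q I (Ideal.span (Set.range (f ∘ rows))) f hIdef hstep
  choose t htQ ht using hloc
  have httQ : (∏ ℓ, t ℓ) ∉ Q := fun h => by
    obtain ⟨ℓ, -, hℓ⟩ := (Ideal.IsPrime.prod_mem_iff).mp h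
    exact htQ ℓ hℓ
  have htt : ∀ ℓ, (∏ ℓ', t ℓ') * f ℓ ∈ Ideal.span (Set.range (f ∘ rows)) := by
    intro ℓ
    rw [← Finset.prod_erase_mul _ _ (Finset.mem_univ ℓ), mul_assoc]
    exact Ideal.mul_mem_left _ _ (ht ℓ)
  refine ⟨φ ((∏ ℓ, t ℓ) * Smoothing.jacobianMinor f rows cols), ?_, c, rows, cols, φ (∏ ℓ, t ℓ),
    map_mul _ _ _, ?_⟩
  · rw [← hQmem]; exact fun h => (hQprime.mem_or_mem h).elim httQ hΔ
  · intro a₁ ha₁ ℓ
    have h1 : a₁ - (∏ ℓ, t ℓ) * Smoothing.jacobianMinor f rows cols ∈ I :=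
      (hImem _).mpr (by rw [map_sub, ha₁, sub_self])
    have h2 : a₁ * f ℓ = Smoothing.jacobianMinor f rows cols * ((∏ ℓ, t ℓ) * f ℓ) +
        (a₁ - (∏ ℓ, t ℓ) * Smoothing.jacobianMinor f rows cols) * f ℓ := by ring
    rw [h2, ← hIdef]
    refine Ideal.add_mem _ (Ideal.mem_sup_left (Ideal.mul_mem_left _ _ (htt ℓ)))
      (Ideal.mem_sup_right ?_)
    rw [pow_two]; exact Ideal.mul_mem_mul h1 (hfI ℓ)

end Groth.Agent.H8.StdEl
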