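import Mathlib
import Groth.Prelude.Def_Smoothing
import Groth.Agent.Lib.Helper8.StdSmooth.Kill
open Groth.Agent.H8.StdSmooth

set_option autoImplicit false
universe u
open MvPolynomial

namespace Groth.Agent.H8.StdEl

theorem isStandardSmooth_of_minor {R A : Type u} [CommRing R] [CommRing A]
    [Algebra R A] (P : Smoothing.MarkedPresentation R A) (col : Fin P.c → Fin P.n)
    (hcol : Function.Injective col) (a : A)
    (ha : ∃ a₁ : A, a = a₁ * P.hom (Smoothing.jacobianMinor P.rel (Fin.castLE P.hcm) col))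
    (hkill : Smoothing.KillsTail P a) :
    Algebra.IsStandardSmooth R (Localization.Away a) := by
  classical
  obtain ⟨a₁, ha₁⟩ := ha
  let S := MvPolynomial (Fin P.n) R
  let v : Fin P.c → S := fun j => P.rel (Fin.castLE P.hcm j)
  obtain ⟨I, hIdef⟩ : ∃ I : Ideal S, I = Ideal.span (Set.range P.rel) := ⟨_, rfl⟩
  obtain ⟨Ic, hIcdef⟩ : ∃ Ic : Ideal S, Ic = Ideal.span (Set.range v) := ⟨_, rfl⟩
  have hIcI : Ic ≤ I := by
    rw [hIcdef, hIdef]
    exact Ideal.span_mono (by rintro _ ⟨j, rfl⟩; exact ⟨_, rfl⟩)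
  have hker : ∀ p, P.hom p = 0 ↔ p ∈ I := fun p => by
    rw [hIdef, ← P.ker_eq]; rfl
  let π : (S ⧸ Ic) →ₐ[R] A :=
    Ideal.Quotient.liftₐ Ic P.hom (fun p hp => (hker p).mpr (hIcI hp))
  have hπmk : ∀ p, π (Ideal.Quotient.mk Ic p) = P.hom p := fun p => rfl
  have hπsurj : Function.Surjective π := fun y => by
    obtain ⟨p, rfl⟩ := P.surj y
    exact ⟨Ideal.Quotient.mk Ic p, rfl⟩
  obtain ⟨Ibar, hIbardef⟩ : ∃ Ibar : Ideal (S ⧸ Ic), Ibar = I.map (Ideal.Quotient.mk Ic) := ⟨_, rfl⟩
  have hIbar : ∀ y : S ⧸ Ic, π y = 0 ↔ y ∈ Ibar := by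
    intro y
    obtain ⟨p, rfl⟩ := Ideal.Quotient.mk_surjective y
    rw [hπmk, hker, hIbardef]
    constructor
    · exact fun h => Ideal.mem_map_of_mem _ h
    · intro h
      obtain ⟨p', hp', hpp'⟩ :=
        (Ideal.mem_map_iff_of_surjective _ Ideal.Quotient.mk_surjective).mp h
      have h1 : p - p' ∈ Ic := Ideal.Quotient.eq.mp hpp'.symm
      have h2 := Ideal.add_mem _ (hIcI h1) hp'
      simpa using h2
  have hIbarFG : Ibar.FG := by
    rw [hIbardef, hIdef]
    exact Ideal.FG.map (Submodule.fg_span (R := S) (Set.finite_range P.rel)) _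
  obtain ⟨at', hat⟩ := P.surj a
  let x : S ⧸ Ic := Ideal.Quotient.mk Ic at'
  have hxa : π x = a := hat
  have hspan_le : Ideal.span (P.rel '' {j' : Fin P.m | (j' : ℕ) < P.c}) ≤ Ic := by
    rw [hIcdef, Ideal.span_le]
    rintro _ ⟨j', hj', rfl⟩
    refine Ideal.subset_span ⟨⟨j', hj'⟩, ?_⟩
    show P.rel (Fin.castLE P.hcm ⟨j', hj'⟩) = P.rel j'
    congr 1
  have hx : ∀ y ∈ Ibar, x * y ∈ Ibar * Ibar := by
    intro y hy
    rw [hIbardef, hIdef, Ideal.map_span] at hy
    refine Submodule.span_induction (p := fun y _ => x * y ∈ Ibar * Ibar) ?_ ?_ ?_ ?_ hy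
    · rintro _ ⟨_, ⟨j, rfl⟩, rfl⟩
      by_cases hj : (j : ℕ) < P.c
      · have : P.rel j ∈ Ic := hspan_le (Ideal.subset_span ⟨j, hj, rfl⟩)
        rw [Ideal.Quotient.eq_zero_iff_mem.mpr this, mul_zero]
        exact Ideal.zero_mem _
      · push Not at hj
        have h1 := hkill at' hat j hj
        have h2 := Ideal.mem_map_of_mem (Ideal.Quotient.mk Ic) h1
        rw [Ideal.map_sup, Ideal.map_pow, ← hIdef, ← hIbardef] at h2
        have h3 : (Ideal.span (P.rel '' {j' : Fin P.m | (j' : ℕ) < P.c})).map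
            (Ideal.Quotient.mk Ic) = ⊥ := by
          rw [eq_bot_iff]
          refine (Ideal.map_mono hspan_le).trans ?_
          rw [Ideal.map_quotient_self]
        rw [h3, bot_sup_eq, map_mul, pow_two] at h2
        exact h2
    · rw [mul_zero]; exact Ideal.zero_mem _
    · intro y z _ _ hy hz
      rw [mul_add]; exact Ideal.add_mem _ hy hz
    · intro r y _ hy
      rw [smul_eq_mul, mul_left_comm]
      exact Ideal.mul_mem_left _ _ hy
  obtain ⟨b, d, hbd, hbkill⟩ := exists_kill_of_smul_le_sq Ibar hIbarFG x hx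
  have hπb : π b = a ^ d := by
    have h1 := (hIbar _).mpr hbd
    rw [map_sub, map_pow, hxa, sub_eq_zero] at h1
    exact h1
  let Δ : S := Smoothing.jacobianMinor P.rel (Fin.castLE P.hcm) col
  let Δbar : S ⧸ Ic := Ideal.Quotient.mk Ic Δ
  let s : S ⧸ Ic := x * b * Δbar
  have hπs : π s = a * a ^ d * P.hom Δ := by
    show π (x * b * Δbar) = _
    rw [map_mul, map_mul, hxa, hπb]
    rfl
  have hsm : π s ∣ a ^ (d + 2) := by
    rw [hπs]
    refine ⟨a₁, ?_⟩
    have : a ^ (d + 2) = a * a ^ d * a := by ring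
    rw [this]
    conv_lhs => arg 2; rw [ha₁]
    ring
  letI : Algebra (S ⧸ Ic) (Localization.Away a) :=
    ((algebraMap A (Localization.Away a)).comp π.toRingHom).toAlgebra
  haveI hloc : IsLocalization.Away s (Localization.Away a) :=
    isLocalization_away_of_kill π.toRingHom hπsurj a x b s hxa
      (fun y hy => hbkill y ((hIbar y).mp hy)) ⟨b * Δbar, by simp only [s]; ring⟩
      ⟨x * Δbar, by simp only [s]; ring⟩ (d + 2) hsm
  haveI : IsScalarTower R (S ⧸ Ic) (Localization.Away a) := by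
    have h : @IsScalarTower R (S ⧸ Ic) (Localization.Away a) Algebra.toSMul Algebra.toSMul
        Algebra.toSMul := by
      refine IsScalarTower.of_algebraMap_eq fun r => ?_
      show _ = algebraMap A (Localization.Away a) (π (algebraMap R (S ⧸ Ic) r))
      rw [π.commutes, ← IsScalarTower.algebraMap_apply]
    exact h
  -- the presentations
  subst hIcdef
  let P₁ : Algebra.PreSubmersivePresentation R (S ⧸ Ideal.span (Set.range v)) (Fin P.n) (Fin P.c) :=
    Algebra.PreSubmersivePresentation.naive (v := v) col hcol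
  let P₂ : Algebra.SubmersivePresentation (S ⧸ Ideal.span (Set.range v)) (Localization.Away a)
      Unit Unit := Algebra.SubmersivePresentation.localizationAway (Localization.Away a) s
  let P₃ : Algebra.PreSubmersivePresentation R (Localization.Away a) (Unit ⊕ Fin P.n)
      (Unit ⊕ Fin P.c) := P₂.toPreSubmersivePresentation.comp P₁
  have hjac : IsUnit P₃.jacobian := by
    show IsUnit (P₂.toPreSubmersivePresentation.comp P₁).jacobian
    rw [Algebra.PreSubmersivePresentation.comp_jacobian_eq_jacobian_smul_jacobian,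
      Algebra.smul_def, IsUnit.mul_iff]
    refine ⟨?_, P₂.jacobian_isUnit⟩
    have h1 : P₁.jacobian = Δbar := by
      rw [Algebra.PreSubmersivePresentation.jacobian_eq_jacobiMatrix_det]
      show Ideal.Quotient.mk _ (P₁.jacobiMatrix.det) = Ideal.Quotient.mk _ Δ
      congr 1
      show _ = Matrix.det _
      rw [← Matrix.det_transpose]
      congr 1
      refine Matrix.ext fun i j => ?_
      rw [Matrix.transpose_apply]
      show (Algebra.PreSubmersivePresentation.naive (v := v) col hcol).jacobiMatrix j i = _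
      rw [Algebra.PreSubmersivePresentation.jacobiMatrix_naive]
      rfl
    rw [h1]
    exact isUnit_of_dvd_unit (map_dvd _ ⟨x * b, by simp only [s]; ring⟩)
      (IsLocalization.Away.algebraMap_isUnit s)
  exact (⟨P₃, hjac⟩ : Algebra.SubmersivePresentation R (Localization.Away a) _ _).isStandardSmooth

end Groth.Agent.H8.StdEl
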