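import Mathlib
import Groth.Prelude.Def_Smoothing
import Groth.Agent.Lib.Helper8.StdEl.C
import Groth.Agent.Lib.Helper8.StdEl.D

set_option autoImplicit false
universe u
open MvPolynomial

namespace Groth.Agent.H8.StdEl

theorem exists_perm_extending {c m : ℕ} (hcm : c ≤ m) (rows : Fin c ↪ Fin m) :
    ∃ σ : Equiv.Perm (Fin m), ∀ j : Fin c, σ (Fin.castLE hcm j) = rows j := by
  classical
  let e₁ : Fin c ≃ {x : Fin m // x ∈ Set.range (Fin.castLE hcm)} :=
    Equiv.ofInjective _ (Fin.castLE_injective hcm)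
  let e₂ : Fin c ≃ {x : Fin m // x ∈ Set.range rows} := Equiv.ofInjective _ rows.injective
  let e : {x : Fin m // x ∈ Set.range (Fin.castLE hcm)} ≃ {x : Fin m // x ∈ Set.range rows} :=
    e₁.symm.trans e₂
  refine ⟨e.extendSubtype, fun j => ?_⟩
  rw [Equiv.extendSubtype_apply_of_mem e _ ⟨j, rfl⟩]
  show ((e₂ (e₁.symm ⟨Fin.castLE hcm j, _⟩)) : Fin m) = rows j
  have : e₁.symm ⟨Fin.castLE hcm j, ⟨j, rfl⟩⟩ = j := by
    rw [Equiv.symm_apply_eq]; rfl
  rw [this]; rfl

section
variable {R A : Type u} [CommRing R] [CommRing A] [Algebra R A]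

theorem killsTail_mul (P : Smoothing.MarkedPresentation R A) (a b : A)
    (h : Smoothing.KillsTail P a) : Smoothing.KillsTail P (a * b) := by
  intro a'' ha'' j hj
  obtain ⟨a₀, ha₀⟩ := P.surj a
  obtain ⟨b₀, hb₀⟩ := P.surj b
  have h1 : a'' - a₀ * b₀ ∈ Ideal.span (Set.range P.rel) := by
    rw [← P.ker_eq]
    show P.hom (a'' - a₀ * b₀) = 0
    rw [map_sub, map_mul, ha'', ha₀, hb₀, sub_self]
  have h2 : a'' * P.rel j = b₀ * (a₀ * P.rel j) + (a'' - a₀ * b₀) * P.rel j := by ring
  rw [h2]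
  refine Ideal.add_mem _ (Ideal.mul_mem_left _ _ (h a₀ ha₀ j hj)) (Ideal.mem_sup_right ?_)
  rw [pow_two]
  exact Ideal.mul_mem_mul h1 (Ideal.subset_span ⟨j, rfl⟩)

theorem isElementaryStandard.isStrictlyStandard {a : A}
    (h : Smoothing.IsElementaryStandard R A a) : Smoothing.IsStrictlyStandard R A a := by
  obtain ⟨P, ⟨a', ha'⟩, hk⟩ := h
  refine ⟨P, ?_, hk⟩
  rw [ha']
  exact Ideal.mul_mem_left _ _ (Ideal.subset_span ⟨Fin.castLE P.hcn, rfl⟩)

theorem isSmoothAt_of_isStrictlyStandard [Algebra.FinitePresentation R A] {a : A}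
    (h : Smoothing.IsStrictlyStandard R A a) (𝔭 : Ideal A) [𝔭.IsPrime] (ha : a ∉ 𝔭) :
    Algebra.IsSmoothAt R 𝔭 := by
  classical
  obtain ⟨P, hspan, hk⟩ := h
  obtain ⟨cols, hcols⟩ : ∃ cols : Fin P.c → Fin P.n,
      P.hom (Smoothing.jacobianMinor P.rel (Fin.castLE P.hcm) cols) ∉ 𝔭 := by
    by_contra hcon
    push Not at hcon
    exact ha ((Ideal.span_le.mpr (by rintro _ ⟨cols, rfl⟩; exact hcon cols)) hspan)
  have hinj : Function.Injective cols := by
    intro i j hij
    by_contra hne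
    apply hcols
    have : Smoothing.jacobianMinor P.rel (Fin.castLE P.hcm) cols = 0 := by
      unfold Smoothing.jacobianMinor
      refine Matrix.det_zero_of_column_eq hne fun k => ?_
      simp only [Matrix.of_apply, hij]
    rw [this, map_zero]; exact 𝔭.zero_mem
  set b := a * P.hom (Smoothing.jacobianMinor P.rel (Fin.castLE P.hcm) cols) with hb
  have hb𝔭 : b ∉ 𝔭 := fun h => (Ideal.IsPrime.mem_or_mem ‹_› h).elim ha hcols
  haveI := isStandardSmooth_of_minor P cols hinj b ⟨a, rfl⟩ (killsTail_mul P a _ hk)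
  have hsm : Algebra.Smooth R (Localization.Away b) := inferInstance
  have := (Algebra.basicOpen_subset_smoothLocus_iff_smooth (R := R) (A := A) (f := b)).mpr hsm
  exact this (show (⟨𝔭, ‹_›⟩ : PrimeSpectrum A) ∈ (PrimeSpectrum.basicOpen b : Set _) from hb𝔭)

/-- The marked presentation obtained by permuting relations and variables. -/
noncomputable def permPres {n m : ℕ} (f : Fin m → MvPolynomial (Fin n) R)
    (φ : MvPolynomial (Fin n) R →ₐ[R] A) (hφ : Function.Surjective φ)
    (hker : RingHom.ker φ.toRingHom = Ideal.span (Set.range f)) (c : ℕ) (hcm : c ≤ m) (hcn : c ≤ n)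
    (σ : Equiv.Perm (Fin m)) (τ : Equiv.Perm (Fin n)) : Smoothing.MarkedPresentation R A where
  n := n
  m := m
  c := c
  hcn := hcn
  hcm := hcm
  rel j := rename τ.symm (f (σ j))
  hom := φ.comp (rename τ)
  surj := fun y => by
    obtain ⟨x, rfl⟩ := hφ y
    refine ⟨rename τ.symm x, ?_⟩
    show φ (rename τ (rename τ.symm x)) = φ x
    rw [rename_rename, Equiv.self_comp_symm, rename_id_apply]
  ker_eq := by
    have hrr : ∀ x : MvPolynomial (Fin n) R, rename τ (rename τ.symm x) = x := fun x => by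
      rw [rename_rename, Equiv.self_comp_symm, rename_id_apply]
    have hrr' : ∀ x : MvPolynomial (Fin n) R, rename τ.symm (rename τ x) = x := fun x => by
      rw [rename_rename, Equiv.symm_comp_self, rename_id_apply]
    apply le_antisymm
    · intro x hx
      have h1 : rename τ x ∈ Ideal.span (Set.range f) := by
        rw [← hker]; exact hx
      have h2 := Ideal.mem_map_of_mem (rename (R := R) τ.symm).toRingHom h1
      rw [Ideal.map_span] at h2
      have h3 : (rename (R := R) τ.symm).toRingHom (rename τ x) = x := hrr' x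
      rw [h3] at h2
      refine Ideal.span_mono ?_ h2
      rintro _ ⟨_, ⟨ℓ, rfl⟩, rfl⟩
      exact ⟨σ.symm ℓ, by simp⟩
    · rw [Ideal.span_le]
      rintro _ ⟨j, rfl⟩
      show φ (rename τ (rename τ.symm (f (σ j)))) = 0
      rw [hrr]
      have : f (σ j) ∈ RingHom.ker φ.toRingHom := by
        rw [hker]; exact Ideal.subset_span ⟨_, rfl⟩
      exact this

theorem exists_isElementaryStandard_of_isSmoothAt [Algebra.FinitePresentation R A] (𝔭 : Ideal A)
    [𝔭.IsPrime] [Algebra.IsSmoothAt R 𝔭] :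
    ∃ a : A, a ∉ 𝔭 ∧ Smoothing.IsElementaryStandard R A a := by
  classical
  obtain ⟨n, φ, hφ, hfg⟩ := Algebra.FinitePresentation.out (R := R) (A := A)
  obtain ⟨m, f, hf⟩ := Submodule.fg_iff_exists_fin_generating_family.mp hfg
  have hker : RingHom.ker φ.toRingHom = Ideal.span (Set.range f) := hf.symm
  obtain ⟨a, ha𝔭, c, rows, cols, a', haa', hkill⟩ := main f φ hφ hker 𝔭
  have hcm : c ≤ m := by simpa using Fintype.card_le_of_embedding rows
  have hcn : c ≤ n := by simpa using Fintype.card_le_of_embedding cols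
  obtain ⟨σ, hσ⟩ := exists_perm_extending hcm rows
  obtain ⟨τ, hτ⟩ := exists_perm_extending hcn cols
  have hrr : ∀ x : MvPolynomial (Fin n) R, rename τ (rename τ.symm x) = x := fun x => by
    rw [rename_rename, Equiv.self_comp_symm, rename_id_apply]
  have hrr' : ∀ x : MvPolynomial (Fin n) R, rename τ.symm (rename τ x) = x := fun x => by
    rw [rename_rename, Equiv.symm_comp_self, rename_id_apply]
  refine ⟨a, ha𝔭, permPres f φ hφ hker c hcm hcn σ τ, ⟨a', ?_⟩, ?_⟩
  · rw [haa']
    congr 1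
    show φ _ = φ (rename τ (Smoothing.jacobianMinor (fun j => rename τ.symm (f (σ j)))
      (Fin.castLE hcm) (Fin.castLE hcn)))
    congr 1
    unfold Smoothing.jacobianMinor
    rw [AlgHom.map_det]
    congr 1
    refine Matrix.ext fun j k => ?_
    show pderiv (cols k) (f (rows j)) =
      rename τ (pderiv (Fin.castLE hcn k) (rename τ.symm (f (σ (Fin.castLE hcm j)))))
    have h1 : Fin.castLE hcn k = τ.symm (cols k) := by
      rw [Equiv.eq_symm_apply]; exact hτ k
    rw [h1, pderiv_rename τ.symm.injective, hrr, hσ]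
  · show ∀ a' : MvPolynomial (Fin n) R, φ (rename τ a') = a → ∀ j : Fin m, c ≤ (j : ℕ) →
      a' * rename τ.symm (f (σ j)) ∈
        Ideal.span ((fun j => rename τ.symm (f (σ j))) '' {j' : Fin m | (j' : ℕ) < c}) ⊔
          Ideal.span (Set.range fun j => rename τ.symm (f (σ j))) ^ 2
    intro a₁ ha₁ j hj
    have h1 := hkill (rename τ a₁) ha₁ (σ j)
    have h2 := Ideal.mem_map_of_mem (rename (R := R) τ.symm).toRingHom h1
    rw [Ideal.map_sup, Ideal.map_pow, Ideal.map_span, Ideal.map_span] at h2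
    have h3 : (rename (R := R) τ.symm).toRingHom (rename τ a₁ * f (σ j)) =
        a₁ * rename τ.symm (f (σ j)) := by
      show rename τ.symm (rename τ a₁ * f (σ j)) = _
      rw [map_mul, hrr']
    rw [h3] at h2
    have hmono : ∀ (I₁ I₂ J₁ J₂ : Ideal (MvPolynomial (Fin n) R)), I₁ ≤ I₂ → J₁ ≤ J₂ →
        I₁ ⊔ J₁ ^ 2 ≤ I₂ ⊔ J₂ ^ 2 := fun I₁ I₂ J₁ J₂ hI hJ =>
      sup_le_sup hI (Ideal.pow_right_mono hJ 2)
    refine hmono _ _ _ _ (Ideal.span_mono ?_) (Ideal.span_mono ?_) h2
    · rintro _ ⟨_, ⟨k, rfl⟩, rfl⟩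
      refine ⟨Fin.castLE hcm k, ?_, ?_⟩
      · show ((Fin.castLE hcm k : Fin m) : ℕ) < c
        simp
      · show rename τ.symm (f (σ (Fin.castLE hcm k))) = _
        rw [hσ]; rfl
    · rintro _ ⟨_, ⟨ℓ, rfl⟩, rfl⟩
      exact ⟨σ.symm ℓ, by simp⟩

theorem singularIdeal_eq [Algebra.FinitePresentation R A] :
    Smoothing.singularIdeal R A =
        (Ideal.span {a : A | Smoothing.IsStrictlyStandard R A a}).radical ∧
      Smoothing.singularIdeal R A =
        (Ideal.span {a : A | Smoothing.IsElementaryStandard R A a}).radical := by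
  have h1 : Smoothing.singularIdeal R A ≤
      (Ideal.span {a : A | Smoothing.IsElementaryStandard R A a}).radical := by
    intro a ha
    rw [Ideal.radical_eq_sInf, Ideal.mem_sInf]
    rintro 𝔭 ⟨hle, h𝔭⟩
    by_contra ha𝔭
    have hsm : (⟨𝔭, h𝔭⟩ : PrimeSpectrum A) ∈ Algebra.smoothLocus R A := by
      by_contra hns
      exact ha𝔭 ((PrimeSpectrum.mem_vanishingIdeal _ _).mp ha ⟨𝔭, h𝔭⟩ hns)
    haveI : Algebra.IsSmoothAt R 𝔭 := hsm
    obtain ⟨a₀, ha₀, hE⟩ := exists_isElementaryStandard_of_isSmoothAt (R := R) 𝔭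
    exact ha₀ (hle (Ideal.subset_span hE))
  have h2 : (Ideal.span {a : A | Smoothing.IsElementaryStandard R A a}).radical ≤
      (Ideal.span {a : A | Smoothing.IsStrictlyStandard R A a}).radical :=
    Ideal.radical_mono (Ideal.span_mono fun a ha => isElementaryStandard.isStrictlyStandard ha)
  have h3 : (Ideal.span {a : A | Smoothing.IsStrictlyStandard R A a}).radical ≤
      Smoothing.singularIdeal R A := by
    have hrad : (Smoothing.singularIdeal R A).IsRadical :=
      PrimeSpectrum.isRadical_vanishingIdeal _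
    rw [hrad.radical_le_iff, Ideal.span_le]
    intro a ha
    show a ∈ PrimeSpectrum.vanishingIdeal _
    rw [PrimeSpectrum.mem_vanishingIdeal]
    intro x hx
    by_contra hax
    exact hx (isSmoothAt_of_isStrictlyStandard ha x.asIdeal hax)
  exact ⟨le_antisymm (h1.trans h2) h3, le_antisymm h1 (h2.trans h3)⟩

end

end Groth.Agent.H8.StdEl
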