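import Mathlib

set_option autoImplicit false
universe u
open MvPolynomial TensorProduct

namespace Groth.Agent.H8.StdEl

section Diff
variable {R A : Type*} [CommRing R] [CommRing A] [Algebra R A] {n : ℕ}
  (φ : MvPolynomial (Fin n) R →ₐ[R] A)

/-- Chain rule for a derivation on a quotient of a polynomial ring. -/
theorem chain_rule {V : Type*} [AddCommGroup V] [Module R V] [Module A V] [IsScalarTower R A V]
    (d : Derivation R A V) (p : MvPolynomial (Fin n) R) :
    d (φ p) = ∑ i, φ (pderiv i p) • d (φ (X i)) := by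
  classical
  induction p using MvPolynomial.induction_on with
  | C r =>
    rw [← MvPolynomial.algebraMap_eq, φ.commutes, Derivation.map_algebraMap]
    symm
    refine Finset.sum_eq_zero fun i _ => ?_
    rw [MvPolynomial.algebraMap_eq, pderiv_C, map_zero, zero_smul]
  | add p q hp hq =>
    simp only [map_add, add_smul, Finset.sum_add_distrib, hp, hq]
  | mul_X p j hp =>
    have h1 : ∀ i, φ (pderiv i (p * X j)) • d (φ (X i)) =
        φ (X j) • (φ (pderiv i p) • d (φ (X i))) + if i = j then φ p • d (φ (X j)) else 0 := by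
      intro i
      rw [Derivation.leibniz, pderiv_X]
      by_cases hij : i = j
      · subst hij
        simp only [Pi.single_eq_same, smul_eq_mul, map_add, map_mul, mul_one, if_true, add_smul,
          mul_smul]
        rw [add_comm]
      · have h0 : (Pi.single (M := fun _ : Fin n => MvPolynomial (Fin n) R) i 1 j) = 0 := by
          rw [Pi.single_apply, if_neg (Ne.symm hij)]
        rw [h0, smul_zero, zero_add, smul_eq_mul, map_mul, if_neg hij, add_zero, mul_smul]
    rw [Finset.sum_congr rfl fun i _ => h1 i, Finset.sum_add_distrib, ← Finset.smul_sum, ← hp,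
      Finset.sum_ite_eq' Finset.univ j, if_pos (Finset.mem_univ j), map_mul, Derivation.leibniz]
    exact add_comm _ _

/-- Construct a derivation on a quotient of a polynomial ring from the images of the variables. -/
theorem exists_derivation (hφ : Function.Surjective φ) {V : Type*} [AddCommGroup V] [Module R V]
    [Module A V] [IsScalarTower R A V] (v : Fin n → V)
    (hv : ∀ p, φ p = 0 → ∑ i, φ (pderiv i p) • v i = 0) :
    ∃ D : Derivation R A V, ∀ p, D (φ p) = ∑ i, φ (pderiv i p) • v i := by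
  classical
  let d₀ : MvPolynomial (Fin n) R →ₗ[R] V :=
    ∑ i, ((LinearMap.toSpanSingleton A V (v i)).restrictScalars R) ∘ₗ φ.toLinearMap ∘ₗ
      (pderiv i : Derivation R (MvPolynomial (Fin n) R) (MvPolynomial (Fin n) R)).toLinearMap
  have hd₀ : ∀ p, d₀ p = ∑ i, φ (pderiv i p) • v i := fun p => by
    simp only [d₀, LinearMap.sum_apply, LinearMap.comp_apply, LinearMap.restrictScalars_apply,
      LinearMap.toSpanSingleton_apply, AlgHom.toLinearMap_apply, Derivation.coeFn_coe]
  have hker : LinearMap.ker φ.toLinearMap ≤ LinearMap.ker d₀ := fun p hp => by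
    rw [LinearMap.mem_ker, hd₀]; exact hv p hp
  let e := φ.toLinearMap.quotKerEquivOfSurjective hφ
  let D₀ : A →ₗ[R] V := ((LinearMap.ker φ.toLinearMap).liftQ d₀ hker) ∘ₗ e.symm.toLinearMap
  have hD₀ : ∀ p, D₀ (φ p) = d₀ p := fun p => by
    have h1 : e.symm (φ p) = Submodule.Quotient.mk p := by
      rw [LinearEquiv.symm_apply_eq]; rfl
    show (LinearMap.ker φ.toLinearMap).liftQ d₀ hker (e.symm (φ p)) = _
    rw [h1, Submodule.liftQ_apply]
  refine ⟨Derivation.mk' D₀ ?_, fun p => (hD₀ p).trans (hd₀ p)⟩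
  intro a b
  obtain ⟨p, rfl⟩ := hφ a
  obtain ⟨q, rfl⟩ := hφ b
  rw [← map_mul, hD₀, hD₀, hD₀, hd₀, hd₀, hd₀]
  simp only [Derivation.leibniz, smul_eq_mul, map_add, map_mul, add_smul, mul_smul,
    Finset.sum_add_distrib, Finset.smul_sum]

end Diff

section Ker
variable {R A Λ : Type*} [CommRing R] [CommRing A] [CommRing Λ] [Algebra R A] [Algebra A Λ]
  {n : ℕ} (φ : MvPolynomial (Fin n) R →ₐ[R] A)

/-- The gradient of `p` pushed to `Λ`. -/
noncomputable def grad (p : MvPolynomial (Fin n) R) : Fin n → Λ :=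
  fun i => algebraMap A Λ (φ (pderiv i p))

/-- `Λ^n → Λ ⊗ Ω`, `e_i ↦ 1 ⊗ d x_i`. -/
noncomputable def piMap : (Fin n → Λ) →ₗ[Λ] Λ ⊗[A] Ω[A⁄R] :=
  Fintype.linearCombination Λ (fun i => (1 : Λ) ⊗ₜ[A] KaehlerDifferential.D R A (φ (X i)))

theorem piMap_apply (x : Fin n → Λ) :
    piMap (Λ := Λ) φ x = ∑ i, x i ⊗ₜ[A] KaehlerDifferential.D R A (φ (X i)) := by
  rw [piMap, Fintype.linearCombination_apply]
  refine Finset.sum_congr rfl fun i _ => ?_
  rw [TensorProduct.smul_tmul', smul_eq_mul, mul_one]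

theorem tmul_D (lam : Λ) (p : MvPolynomial (Fin n) R) :
    lam ⊗ₜ[A] KaehlerDifferential.D R A (φ p) = piMap φ (lam • grad φ p) := by
  rw [piMap_apply, chain_rule φ (KaehlerDifferential.D R A) p, TensorProduct.tmul_sum]
  refine Finset.sum_congr rfl fun i _ => ?_
  rw [← TensorProduct.smul_tmul, Pi.smul_apply, smul_eq_mul, Algebra.smul_def, mul_comm]
  rfl

theorem piMap_surjective (hφ : Function.Surjective φ) :
    Function.Surjective (piMap (Λ := Λ) φ) := by
  intro z
  induction z using TensorProduct.induction_on with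
  | zero => exact ⟨0, map_zero _⟩
  | add x y hx hy =>
    obtain ⟨a, rfl⟩ := hx
    obtain ⟨b, rfl⟩ := hy
    exact ⟨a + b, map_add _ _ _⟩
  | tmul lam ω =>
    have hω : ω ∈ Submodule.span A (Set.range (KaehlerDifferential.D R A)) := by
      rw [KaehlerDifferential.span_range_derivation]; trivial
    revert lam
    refine Submodule.span_induction
      (p := fun ω _ => ∀ lam : Λ, ∃ x, piMap (Λ := Λ) φ x = lam ⊗ₜ ω) ?_ ?_ ?_ ?_ hω
    · rintro _ ⟨a, rfl⟩ lam
      obtain ⟨p, rfl⟩ := hφ a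
      exact ⟨_, (tmul_D φ lam p).symm⟩
    · intro lam
      exact ⟨0, by rw [map_zero, TensorProduct.tmul_zero]⟩
    · intro x y _ _ hx hy lam
      obtain ⟨a, ha⟩ := hx lam
      obtain ⟨b, hb⟩ := hy lam
      exact ⟨a + b, by rw [map_add, ha, hb, TensorProduct.tmul_add]⟩
    · intro a x _ hx lam
      obtain ⟨b, hb⟩ := hx (a • lam)
      exact ⟨b, by rw [hb, TensorProduct.smul_tmul]⟩

theorem grad_mem_of_mem {m : ℕ} (g : Fin m → MvPolynomial (Fin n) R) (hg : ∀ ℓ, φ (g ℓ) = 0)
    (p : MvPolynomial (Fin n) R) (hp : p ∈ Ideal.span (Set.range g)) :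
    φ p = 0 ∧ grad (Λ := Λ) φ p ∈
      Submodule.span Λ (Set.range fun ℓ => grad (Λ := Λ) φ (g ℓ)) := by
  refine Submodule.span_induction (p := fun p _ => φ p = 0 ∧ grad (Λ := Λ) φ p ∈
      Submodule.span Λ (Set.range fun ℓ => grad (Λ := Λ) φ (g ℓ))) ?_ ?_ ?_ ?_ hp
  · rintro _ ⟨ℓ, rfl⟩
    exact ⟨hg ℓ, Submodule.subset_span ⟨ℓ, rfl⟩⟩
  · refine ⟨map_zero _, ?_⟩
    have : grad (Λ := Λ) φ 0 = 0 := by
      ext i; simp [grad]
    rw [this]; exact Submodule.zero_mem _
  · rintro x y _ _ ⟨hx1, hx2⟩ ⟨hy1, hy2⟩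
    refine ⟨by rw [map_add, hx1, hy1, add_zero], ?_⟩
    have : grad (Λ := Λ) φ (x + y) = grad φ x + grad φ y := by
      ext i; simp [grad]
    rw [this]; exact Submodule.add_mem _ hx2 hy2
  · rintro a x _ ⟨hx1, hx2⟩
    refine ⟨by rw [smul_eq_mul, map_mul, hx1, mul_zero], ?_⟩
    have : grad (Λ := Λ) φ (a • x) = algebraMap A Λ (φ a) • grad φ x := by
      ext i
      simp only [grad, smul_eq_mul, Pi.smul_apply, Derivation.leibniz, map_add, map_mul, hx1,
        zero_mul, map_zero, add_zero]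
    rw [this]; exact Submodule.smul_mem _ _ hx2

variable [Algebra R Λ] [IsScalarTower R A Λ]

theorem ker_piMap {m : ℕ} (hφ : Function.Surjective φ) (g : Fin m → MvPolynomial (Fin n) R)
    (hker : RingHom.ker φ.toRingHom = Ideal.span (Set.range g)) :
    LinearMap.ker (piMap (Λ := Λ) φ) =
      Submodule.span Λ (Set.range fun ℓ => grad (Λ := Λ) φ (g ℓ)) := by
  classical
  have hg : ∀ ℓ, φ (g ℓ) = 0 := fun ℓ => by
    have : g ℓ ∈ RingHom.ker φ.toRingHom := by rw [hker]; exact Ideal.subset_span ⟨ℓ, rfl⟩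
    exact this
  apply le_antisymm
  · obtain ⟨N', hN'⟩ : ∃ N' : Submodule Λ (Fin n → Λ),
        N' = Submodule.span Λ (Set.range fun ℓ => grad (Λ := Λ) φ (g ℓ)) := ⟨_, rfl⟩
    rw [← hN']
    let v : Fin n → (Fin n → Λ) ⧸ N' := fun i => N'.mkQ (Pi.single i 1)
    have hsum : ∀ p, ∑ i, φ (pderiv i p) • v i = N'.mkQ (grad φ p) := by
      intro p
      have : grad (Λ := Λ) φ p = ∑ i, φ (pderiv i p) • (Pi.single i 1 : Fin n → Λ) := by
        ext j
        simp [grad, Finset.sum_apply, Pi.single_apply, Algebra.smul_def]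
      rw [this, map_sum]
      refine Finset.sum_congr rfl fun i _ => ?_
      rw [LinearMap.map_smul_of_tower]
    have hv : ∀ p, φ p = 0 → ∑ i, φ (pderiv i p) • v i = 0 := by
      intro p hp
      rw [hsum, Submodule.mkQ_apply, Submodule.Quotient.mk_eq_zero, hN']
      have : p ∈ Ideal.span (Set.range g) := by rw [← hker]; exact hp
      exact (grad_mem_of_mem φ g hg p this).2
    obtain ⟨D, hD⟩ := exists_derivation φ hφ v hv
    let θ : Λ ⊗[A] Ω[A⁄R] →ₗ[Λ] (Fin n → Λ) ⧸ N' :=
      LinearMap.liftBaseChange Λ D.liftKaehlerDifferential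
    intro x hx
    have h1 : θ (piMap φ x) = N'.mkQ x := by
      rw [piMap_apply, map_sum]
      have : x = ∑ i, x i • (Pi.single i 1 : Fin n → Λ) := by
        ext j; simp [Finset.sum_apply, Pi.single_apply]
      conv_rhs => rw [this, map_sum]
      refine Finset.sum_congr rfl fun i _ => ?_
      rw [LinearMap.liftBaseChange_tmul, Derivation.liftKaehlerDifferential_comp_D, hD, hsum,
        map_smul]
      congr 2
      ext j
      by_cases hij : j = i
      · subst hij; simp [grad, pderiv_X]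
      · simp [grad, pderiv_X, Pi.single_apply, hij, Ne.symm hij]
    rw [LinearMap.mem_ker] at hx
    rw [hx, map_zero] at h1
    exact (Submodule.Quotient.mk_eq_zero _).mp h1.symm
  · rw [Submodule.span_le]
    rintro _ ⟨ℓ, rfl⟩
    rw [SetLike.mem_coe, LinearMap.mem_ker]
    have := tmul_D (Λ := Λ) φ 1 (g ℓ)
    rw [one_smul] at this
    rw [← this, hg, map_zero, TensorProduct.tmul_zero]

end Ker

end Groth.Agent.H8.StdEl
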