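import Mathlib
import Groth.Prelude.Def_Smoothing
import Groth.Agent.Lib.Helper8.StdEl.E

set_option autoImplicit false
universe u
open MvPolynomial

namespace Groth.Agent.H8.StdEl

section
variable {R A : Type u} [CommRing R] [CommRing A] [Algebra R A]

/-- Criterion for elementary standardness with arbitrary rows/columns (indices in `Fin`). -/
theorem isElementaryStandard_of_rows_cols {n m : ℕ}
    (f : Fin m → MvPolynomial (Fin n) R) (φ : MvPolynomial (Fin n) R →ₐ[R] A)
    (hφ : Function.Surjective φ)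
    (hker : RingHom.ker φ.toRingHom = Ideal.span (Set.range f)) (a : A) {c : ℕ}
    (rows : Fin c ↪ Fin m) (cols : Fin c ↪ Fin n) (a' : A)
    (haa' : a = a' * φ (Smoothing.jacobianMinor f rows cols))
    (hkill : ∀ a₁ : MvPolynomial (Fin n) R, φ a₁ = a → ∀ ℓ : Fin m,
        a₁ * f ℓ ∈ Ideal.span (Set.range (f ∘ rows)) ⊔ Ideal.span (Set.range f) ^ 2) :
    Smoothing.IsElementaryStandard R A a := by
  classical
  have hcm : c ≤ m := by simpa using Fintype.card_le_of_embedding rows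
  have hcn : c ≤ n := by simpa using Fintype.card_le_of_embedding cols
  obtain ⟨σ, hσ⟩ := exists_perm_extending hcm rows
  obtain ⟨τ, hτ⟩ := exists_perm_extending hcn cols
  have hrr : ∀ x : MvPolynomial (Fin n) R, rename τ (rename τ.symm x) = x := fun x => by
    rw [rename_rename, Equiv.self_comp_symm, rename_id_apply]
  have hrr' : ∀ x : MvPolynomial (Fin n) R, rename τ.symm (rename τ x) = x := fun x => by
    rw [rename_rename, Equiv.symm_comp_self, rename_id_apply]
  refine ⟨permPres f φ hφ hker c hcm hcn σ τ, ⟨a', ?_⟩, ?_⟩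
  · rw [haa']
    congr 1
    show φ _ = φ (rename τ (Smoothing.jacobianMinor (fun j => rename τ.symm (f (σ j)))
      (Fin.castLE hcm) (Fin.castLE hcn)))
    congr 1
    unfold Smoothing.jacobianMinor
    rw [AlgHom.map_det]
    congr 1
    refine Matrix.ext fun j k => ?_
    show pderiv (cols k) (f (rows j)) =
      rename τ (pderiv (Fin.castLE hcn k) (rename τ.symm (f (σ (Fin.castLE hcm j)))))
    have h1 : Fin.castLE hcn k = τ.symm (cols k) := by
      rw [Equiv.eq_symm_apply]; exact hτ k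
    rw [h1, pderiv_rename τ.symm.injective, hrr, hσ]
  · show ∀ a' : MvPolynomial (Fin n) R, φ (rename τ a') = a → ∀ j : Fin m, c ≤ (j : ℕ) →
      a' * rename τ.symm (f (σ j)) ∈
        Ideal.span ((fun j => rename τ.symm (f (σ j))) '' {j' : Fin m | (j' : ℕ) < c}) ⊔
          Ideal.span (Set.range fun j => rename τ.symm (f (σ j))) ^ 2
    intro a₁ ha₁ j hj
    have h1 := hkill (rename τ a₁) ha₁ (σ j)
    have h2 := Ideal.mem_map_of_mem (rename (R := R) τ.symm).toRingHom h1
    rw [Ideal.map_sup, Ideal.map_pow, Ideal.map_span, Ideal.map_span] at h2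
    have h3 : (rename (R := R) τ.symm).toRingHom (rename τ a₁ * f (σ j)) =
        a₁ * rename τ.symm (f (σ j)) := by
      show rename τ.symm (rename τ a₁ * f (σ j)) = _
      rw [map_mul, hrr']
    rw [h3] at h2
    have hmono : ∀ (I₁ I₂ J₁ J₂ : Ideal (MvPolynomial (Fin n) R)), I₁ ≤ I₂ → J₁ ≤ J₂ →
        I₁ ⊔ J₁ ^ 2 ≤ I₂ ⊔ J₂ ^ 2 := fun I₁ I₂ J₁ J₂ hI hJ =>
      sup_le_sup hI (Ideal.pow_right_mono hJ 2)
    refine hmono _ _ _ _ (Ideal.span_mono ?_) (Ideal.span_mono ?_) h2
    · rintro _ ⟨_, ⟨k, rfl⟩, rfl⟩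
      refine ⟨Fin.castLE hcm k, ?_, ?_⟩
      · show ((Fin.castLE hcm k : Fin m) : ℕ) < c
        simp
      · show rename τ.symm (f (σ (Fin.castLE hcm k))) = _
        rw [hσ]; rfl
    · rintro _ ⟨_, ⟨ℓ, rfl⟩, rfl⟩
      exact ⟨σ.symm ℓ, by simp⟩

/-- Criterion for elementary standardness with arbitrary finite index types. -/
theorem isElementaryStandard_of_finite
    {ι ρ σ : Type*} [Fintype ι] [Fintype ρ] [Fintype σ] [DecidableEq ι] [DecidableEq ρ]
    [DecidableEq σ]
    (rel : ρ → MvPolynomial ι R) (Φ : MvPolynomial ι R →ₐ[R] A) (hΦ : Function.Surjective Φ)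
    (hker : RingHom.ker Φ.toRingHom = Ideal.span (Set.range rel))
    (rows : σ ↪ ρ) (cols : σ ↪ ι) (a a' : A)
    (haa' : a = a' * Φ (Matrix.det (Matrix.of fun j k : σ => pderiv (cols k) (rel (rows j)))))
    (hkill : ∀ a₁, Φ a₁ = a → ∀ ℓ : ρ,
      a₁ * rel ℓ ∈ Ideal.span (Set.range (rel ∘ rows)) ⊔ Ideal.span (Set.range rel) ^ 2) :
    Smoothing.IsElementaryStandard R A a := by
  classical
  let eι : ι ≃ Fin (Fintype.card ι) := Fintype.equivFin ι
  let eρ : ρ ≃ Fin (Fintype.card ρ) := Fintype.equivFin ρ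
  let eσ : σ ≃ Fin (Fintype.card σ) := Fintype.equivFin σ
  have hrr : ∀ x : MvPolynomial ι R, rename eι.symm (rename eι x) = x := fun x => by
    rw [rename_rename, Equiv.symm_comp_self, rename_id_apply]
  have hrr' : ∀ x : MvPolynomial (Fin (Fintype.card ι)) R, rename eι (rename eι.symm x) = x :=
    fun x => by rw [rename_rename, Equiv.self_comp_symm, rename_id_apply]
  let f : Fin (Fintype.card ρ) → MvPolynomial (Fin (Fintype.card ι)) R :=
    fun ℓ => rename eι (rel (eρ.symm ℓ))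
  let φ : MvPolynomial (Fin (Fintype.card ι)) R →ₐ[R] A := Φ.comp (rename eι.symm)
  have hφ : Function.Surjective φ := fun y => by
    obtain ⟨x, rfl⟩ := hΦ y
    exact ⟨rename eι x, by show Φ (rename eι.symm (rename eι x)) = Φ x; rw [hrr]⟩
  have hkerφ : RingHom.ker φ.toRingHom = Ideal.span (Set.range f) := by
    apply le_antisymm
    · intro x hx
      have h1 : rename eι.symm x ∈ Ideal.span (Set.range rel) := by
        rw [← hker]; exact hx
      have h2 := Ideal.mem_map_of_mem (rename (R := R) eι).toRingHom h1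
      rw [Ideal.map_span] at h2
      have h3 : (rename (R := R) eι).toRingHom (rename eι.symm x) = x := hrr' x
      rw [h3] at h2
      refine Ideal.span_mono ?_ h2
      rintro _ ⟨_, ⟨ℓ, rfl⟩, rfl⟩
      exact ⟨eρ ℓ, by simp [f]⟩
    · rw [Ideal.span_le]
      rintro _ ⟨j, rfl⟩
      show Φ (rename eι.symm (rename eι (rel (eρ.symm j)))) = 0
      rw [hrr]
      have : rel (eρ.symm j) ∈ RingHom.ker Φ.toRingHom := by
        rw [hker]; exact Ideal.subset_span ⟨_, rfl⟩
      exact this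
  let rows' : Fin (Fintype.card σ) ↪ Fin (Fintype.card ρ) :=
    eσ.symm.toEmbedding.trans (rows.trans eρ.toEmbedding)
  let cols' : Fin (Fintype.card σ) ↪ Fin (Fintype.card ι) :=
    eσ.symm.toEmbedding.trans (cols.trans eι.toEmbedding)
  have hminor : Smoothing.jacobianMinor f rows' cols' =
      rename eι (Matrix.det (Matrix.of fun j k : σ => pderiv (cols k) (rel (rows j)))) := by
    unfold Smoothing.jacobianMinor
    rw [AlgHom.map_det, ← Matrix.det_submatrix_equiv_self eσ.symm]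
    congr 1
    refine Matrix.ext fun j k => ?_
    show pderiv (eι (cols (eσ.symm k))) (rename eι (rel (eρ.symm (eρ (rows (eσ.symm j)))))) =
      rename eι (pderiv (cols (eσ.symm k)) (rel (rows (eσ.symm j))))
    rw [Equiv.symm_apply_apply, pderiv_rename eι.injective]
  refine isElementaryStandard_of_rows_cols f φ hφ hkerφ a rows' cols' a' ?_ ?_
  · rw [haa', hminor]
    show _ = a' * Φ (rename eι.symm (rename eι _))
    rw [hrr]
  · intro a₁ ha₁ ℓ
    have h1 := hkill (rename eι.symm a₁) ha₁ (eρ.symm ℓ)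
    have h2 := Ideal.mem_map_of_mem (rename (R := R) eι).toRingHom h1
    rw [Ideal.map_sup, Ideal.map_pow, Ideal.map_span, Ideal.map_span] at h2
    have h3 : (rename (R := R) eι).toRingHom (rename eι.symm a₁ * rel (eρ.symm ℓ)) =
        a₁ * f ℓ := by
      show rename eι (rename eι.symm a₁ * rel (eρ.symm ℓ)) = _
      rw [map_mul, hrr']
    rw [h3] at h2
    have hmono : ∀ (I₁ I₂ J₁ J₂ : Ideal (MvPolynomial (Fin (Fintype.card ι)) R)), I₁ ≤ I₂ →
        J₁ ≤ J₂ → I₁ ⊔ J₁ ^ 2 ≤ I₂ ⊔ J₂ ^ 2 := fun I₁ I₂ J₁ J₂ hI hJ =>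
      sup_le_sup hI (Ideal.pow_right_mono hJ 2)
    refine hmono _ _ _ _ (Ideal.span_mono ?_) (Ideal.span_mono ?_) h2
    · rintro _ ⟨_, ⟨k, rfl⟩, rfl⟩
      exact ⟨eσ k, by simp [f, rows']⟩
    · rintro _ ⟨_, ⟨ℓ', rfl⟩, rfl⟩
      exact ⟨eρ ℓ', by simp [f]⟩

end

end Groth.Agent.H8.StdEl
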