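import Mathlib
import Groth.Prelude.Def_Smoothing

set_option autoImplicit false
universe u
open MvPolynomial TensorProduct

namespace Groth.Agent.H8.StdEl

section BC
variable {R A R' : Type u} [CommRing R] [CommRing A] [Algebra R A] [CommRing R'] [Algebra R R']

/-- base change of the presentation map -/
noncomputable def bcHom {n : ℕ} (φ : MvPolynomial (Fin n) R →ₐ[R] A) :
    MvPolynomial (Fin n) R' →ₐ[R'] R' ⊗[R] A :=
  aeval (fun i => (1 : R') ⊗ₜ[R] φ (X i))

theorem bcHom_map {n : ℕ} (φ : MvPolynomial (Fin n) R →ₐ[R] A) (p : MvPolynomial (Fin n) R) :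
    bcHom (R' := R') φ (map (algebraMap R R') p) = (1 : R') ⊗ₜ[R] φ p := by
  have h : ((bcHom (R' := R') φ).restrictScalars R).comp (mapAlgHom (Algebra.ofId R R')) =
      (Algebra.TensorProduct.includeRight : A →ₐ[R] R' ⊗[R] A).comp φ := by
    apply MvPolynomial.algHom_ext
    intro i
    simp [bcHom]
  exact congr($h p)

theorem bcHom_surjective {n : ℕ} (φ : MvPolynomial (Fin n) R →ₐ[R] A)
    (hφ : Function.Surjective φ) : Function.Surjective (bcHom (R' := R') φ) := by
  intro z
  induction z using TensorProduct.induction_on with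
  | zero => exact ⟨0, map_zero _⟩
  | add x y hx hy =>
    obtain ⟨a, rfl⟩ := hx
    obtain ⟨b, rfl⟩ := hy
    exact ⟨a + b, map_add _ _ _⟩
  | tmul r a =>
    obtain ⟨p, rfl⟩ := hφ a
    refine ⟨C r * map (algebraMap R R') p, ?_⟩
    rw [map_mul, bcHom_map, ← MvPolynomial.algebraMap_eq, AlgHom.commutes,
      Algebra.TensorProduct.algebraMap_apply, Algebra.TensorProduct.tmul_mul_tmul, one_mul]
    simp

theorem ker_bcHom {n m : ℕ} (φ : MvPolynomial (Fin n) R →ₐ[R] A) (hφ : Function.Surjective φ)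
    (f : Fin m → MvPolynomial (Fin n) R)
    (hker : RingHom.ker φ.toRingHom = Ideal.span (Set.range f)) :
    RingHom.ker (bcHom (R' := R') φ).toRingHom =
      Ideal.span (Set.range fun j => map (algebraMap R R') (f j)) := by
  have hf : ∀ j, φ (f j) = 0 := fun j => by
    have : f j ∈ RingHom.ker φ.toRingHom := by rw [hker]; exact Ideal.subset_span ⟨j, rfl⟩
    exact this
  apply le_antisymm
  · obtain ⟨K, hK⟩ : ∃ K : Ideal (MvPolynomial (Fin n) R'),
        K = Ideal.span (Set.range fun j => map (algebraMap R R') (f j)) := ⟨_, rfl⟩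
    rw [← hK]
    let ψ₀ : MvPolynomial (Fin n) R →ₐ[R] (MvPolynomial (Fin n) R' ⧸ K) :=
      ((Ideal.Quotient.mkₐ R' K).restrictScalars R).comp (mapAlgHom (Algebra.ofId R R'))
    have hψ₀ : ∀ p, ψ₀ p = Ideal.Quotient.mk K (map (algebraMap R R') p) := fun p => rfl
    have hψ₀ker : ∀ p ∈ RingHom.ker φ.toRingHom, ψ₀ p = 0 := by
      intro p hp
      rw [hker] at hp
      refine Submodule.span_induction (p := fun p _ => ψ₀ p = 0) ?_ ?_ ?_ ?_ hp
      · rintro _ ⟨j, rfl⟩
        rw [hψ₀, Ideal.Quotient.eq_zero_iff_mem, hK]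
        exact Ideal.subset_span ⟨j, rfl⟩
      · exact map_zero _
      · intro x y _ _ hx hy; rw [map_add, hx, hy, add_zero]
      · intro a x _ hx; rw [smul_eq_mul, map_mul, hx, mul_zero]
    let ψ₁ : (MvPolynomial (Fin n) R ⧸ RingHom.ker φ.toRingHom) →ₐ[R]
        (MvPolynomial (Fin n) R' ⧸ K) := Ideal.Quotient.liftₐ _ ψ₀ hψ₀ker
    let ψA : A →ₐ[R] (MvPolynomial (Fin n) R' ⧸ K) :=
      ψ₁.comp (Ideal.quotientKerAlgEquivOfSurjective hφ).symm.toAlgHom
    have hψA : ∀ p, ψA (φ p) = ψ₀ p := by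
      intro p
      have h1 : (Ideal.quotientKerAlgEquivOfSurjective hφ).symm (φ p) =
          Ideal.Quotient.mk _ p := by
        rw [AlgEquiv.symm_apply_eq]; rfl
      show ψ₁ ((Ideal.quotientKerAlgEquivOfSurjective hφ).symm (φ p)) = _
      rw [h1]; rfl
    let θ : R' ⊗[R] A →ₐ[R'] (MvPolynomial (Fin n) R' ⧸ K) :=
      Algebra.TensorProduct.lift (Algebra.ofId R' _) ψA (fun _ _ => Commute.all _ _)
    have hθ : θ.comp (bcHom (R' := R') φ) = Ideal.Quotient.mkₐ R' K := by
      apply MvPolynomial.algHom_ext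
      intro i
      show θ (bcHom φ (X i)) = Ideal.Quotient.mk K (X i)
      have h2 : bcHom (R' := R') φ (X i) = (1 : R') ⊗ₜ[R] φ (X i) := by simp [bcHom]
      rw [h2]
      show θ ((1 : R') ⊗ₜ[R] φ (X i)) = _
      rw [Algebra.TensorProduct.lift_tmul, map_one, one_mul, hψA, hψ₀, map_X]
    intro p hp
    have h3 : θ (bcHom φ p) = Ideal.Quotient.mk K p := congr($hθ p)
    have h4 : bcHom (R' := R') φ p = 0 := hp
    rw [h4, map_zero] at h3
    exact Ideal.Quotient.eq_zero_iff_mem.mp h3.symm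
  · rw [Ideal.span_le]
    rintro _ ⟨j, rfl⟩
    show bcHom φ (map (algebraMap R R') (f j)) = 0
    rw [bcHom_map, hf, TensorProduct.tmul_zero]

theorem jacobianMinor_map {n m c : ℕ} (f : Fin m → MvPolynomial (Fin n) R) (rows : Fin c → Fin m)
    (cols : Fin c → Fin n) :
    Smoothing.jacobianMinor (fun j => map (algebraMap R R') (f j)) rows cols =
      map (algebraMap R R') (Smoothing.jacobianMinor f rows cols) := by
  unfold Smoothing.jacobianMinor
  rw [RingHom.map_det]
  congr 1
  refine Matrix.ext fun j k => ?_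
  show pderiv (cols k) (map (algebraMap R R') (f (rows j))) =
    map (algebraMap R R') (pderiv (cols k) (f (rows j)))
  rw [pderiv_map]

/-- the base-changed marked presentation -/
noncomputable def bcPres (P : Smoothing.MarkedPresentation R A) :
    Smoothing.MarkedPresentation R' (R' ⊗[R] A) where
  n := P.n
  m := P.m
  c := P.c
  hcn := P.hcn
  hcm := P.hcm
  rel := fun j => map (algebraMap R R') (P.rel j)
  hom := bcHom P.hom
  surj := bcHom_surjective P.hom P.surj
  ker_eq := ker_bcHom P.hom P.surj P.rel P.ker_eq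

theorem killsTail_bc (P : Smoothing.MarkedPresentation R A) (a : A)
    (h : Smoothing.KillsTail P a) :
    Smoothing.KillsTail (bcPres (R' := R') P) ((1 : R') ⊗ₜ[R] a) := by
  show ∀ a' : MvPolynomial (Fin P.n) R', bcHom P.hom a' = (1 : R') ⊗ₜ[R] a → ∀ j : Fin P.m,
    P.c ≤ (j : ℕ) → a' * map (algebraMap R R') (P.rel j) ∈
      Ideal.span ((fun j => map (algebraMap R R') (P.rel j)) '' {j' : Fin P.m | (j' : ℕ) < P.c}) ⊔
        Ideal.span (Set.range fun j => map (algebraMap R R') (P.rel j)) ^ 2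
  intro a₁' ha₁' j hj
  obtain ⟨a₁, ha₁⟩ := P.surj a
  have h1 := h a₁ ha₁ j hj
  have h2 := Ideal.mem_map_of_mem (map (algebraMap R R') : MvPolynomial (Fin P.n) R →+* _) h1
  rw [Ideal.map_sup, Ideal.map_pow, Ideal.map_span, Ideal.map_span, map_mul, Set.image_image,
    ← Set.range_comp] at h2
  have h3 : a₁' - map (algebraMap R R') a₁ ∈
      Ideal.span (Set.range fun j => map (algebraMap R R') (P.rel j)) := by
    rw [← ker_bcHom P.hom P.surj P.rel P.ker_eq]
    show bcHom P.hom (a₁' - map (algebraMap R R') a₁) = 0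
    rw [map_sub, ha₁', bcHom_map, ha₁, sub_self]
  have h4 : a₁' * map (algebraMap R R') (P.rel j) =
      map (algebraMap R R') a₁ * map (algebraMap R R') (P.rel j) +
        (a₁' - map (algebraMap R R') a₁) * map (algebraMap R R') (P.rel j) := by ring
  rw [h4]
  refine Ideal.add_mem _ h2 (Ideal.mem_sup_right ?_)
  rw [pow_two]
  exact Ideal.mul_mem_mul h3 (Ideal.subset_span ⟨j, rfl⟩)

theorem isStandard_baseChange (a : A) :
    (Smoothing.IsElementaryStandard R A a →
        Smoothing.IsElementaryStandard R' (R' ⊗[R] A) ((1 : R') ⊗ₜ[R] a)) ∧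
      (Smoothing.IsStrictlyStandard R A a →
        Smoothing.IsStrictlyStandard R' (R' ⊗[R] A) ((1 : R') ⊗ₜ[R] a)) := by
  constructor
  · rintro ⟨P, ⟨a', ha'⟩, hkill⟩
    refine ⟨bcPres P, ⟨(1 : R') ⊗ₜ[R] a', ?_⟩, killsTail_bc P a hkill⟩
    show (1 : R') ⊗ₜ[R] a = (1 : R') ⊗ₜ[R] a' * bcHom P.hom (Smoothing.jacobianMinor
      (fun j => map (algebraMap R R') (P.rel j)) (Fin.castLE P.hcm) (Fin.castLE P.hcn))
    rw [jacobianMinor_map, bcHom_map, Algebra.TensorProduct.tmul_mul_tmul, one_mul, ← ha']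
  · rintro ⟨P, hmem, hkill⟩
    refine ⟨bcPres P, ?_, killsTail_bc P a hkill⟩
    show (1 : R') ⊗ₜ[R] a ∈ Ideal.span (Set.range fun cols : Fin P.c → Fin P.n =>
      bcHom P.hom (Smoothing.jacobianMinor (fun j => map (algebraMap R R') (P.rel j))
        (Fin.castLE P.hcm) cols))
    have h1 := Ideal.mem_map_of_mem
      (Algebra.TensorProduct.includeRight : A →ₐ[R] R' ⊗[R] A).toRingHom hmem
    rw [Ideal.map_span, ← Set.range_comp] at h1
    convert h1 using 3
    · funext cols
      show bcHom P.hom _ = (1 : R') ⊗ₜ[R] P.hom _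
      rw [jacobianMinor_map, bcHom_map]
    · rfl

end BC

end Groth.Agent.H8.StdEl
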