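import Mathlib
import Groth.Prelude.Def_Smoothing
import Groth.Agent.Lib.Helper8.StdEl.F

set_option autoImplicit false
universe u
open MvPolynomial TensorProduct

namespace Groth.Agent.H8.StdEl

section Rescale
variable {K B' : Type*} [CommRing K] [CommRing B'] [Algebra K B'] {ι σ : Type*} [Fintype σ]
  [DecidableEq σ] [DecidableEq ι]

theorem pderiv_aeval_diag (c : ι → K) (k : ι) (p : MvPolynomial ι K) :
    pderiv k (aeval (fun i => C (c i) * X i) p) =
      C (c k) * aeval (fun i => C (c i) * X i) (pderiv k p) := by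
  induction p using MvPolynomial.induction_on with
  | C a => simp
  | add p q hp hq => simp only [map_add, hp, hq, mul_add]
  | mul_X p j hp =>
    have hX : pderiv k (X j : MvPolynomial ι K) = if j = k then 1 else 0 := by
      rw [pderiv_X, Pi.single_apply]
    simp only [map_mul, aeval_X, Derivation.leibniz, hp, hX, pderiv_C, smul_eq_mul, map_add,
      mul_zero, add_zero, smul_zero]
    split_ifs with h
    · subst h; simp only [map_one, mul_one]; ring
    · simp only [map_zero, mul_zero, zero_add]; ring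

theorem rescale (F : σ → MvPolynomial ι K) (y : ι → B') (emb : σ → ι)
    (hsurj : Function.Surjective (aeval y : MvPolynomial ι K →ₐ[K] B'))
    (hker : ∀ p : MvPolynomial ι K, aeval y p = 0 ↔ p ∈ Ideal.span (Set.range F))
    (hunit : IsUnit (aeval y (Matrix.det (Matrix.of fun j k : σ => pderiv (emb k) (F j)))))
    (c c' : ι → K) (hcc' : ∀ i, c i * c' i = 1) :
    ∃ F' : σ → MvPolynomial ι K,
      Function.Surjective (aeval (fun i => c i • y i) : MvPolynomial ι K →ₐ[K] B') ∧
      (∀ p, aeval (fun i => c i • y i) p = 0 ↔ p ∈ Ideal.span (Set.range F')) ∧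
      IsUnit (aeval (fun i => c i • y i)
        (Matrix.det (Matrix.of fun j k : σ => pderiv (emb k) (F' j)))) := by
  let θ : MvPolynomial ι K →ₐ[K] MvPolynomial ι K := aeval (fun i => C (c' i) * X i)
  let θ' : MvPolynomial ι K →ₐ[K] MvPolynomial ι K := aeval (fun i => C (c i) * X i)
  have hθθ' : ∀ p, θ (θ' p) = p := by
    intro p
    have : θ.comp θ' = AlgHom.id K _ := by
      refine MvPolynomial.algHom_ext fun i => ?_
      show θ (θ' (X i)) = X i
      simp only [θ, θ', aeval_X, map_mul, aeval_C, algebraMap_eq]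
      rw [← mul_assoc, ← C_mul, hcc', C_1, one_mul]
    exact AlgHom.congr_fun this p
  have hθ'θ : ∀ p, θ' (θ p) = p := by
    intro p
    have : θ'.comp θ = AlgHom.id K _ := by
      refine MvPolynomial.algHom_ext fun i => ?_
      show θ' (θ (X i)) = X i
      simp only [θ, θ', aeval_X, map_mul, aeval_C, algebraMap_eq]
      rw [← mul_assoc, ← C_mul, mul_comm, mul_comm (c' i), hcc', C_1, mul_one]
    exact AlgHom.congr_fun this p
  have hy' : ∀ p, aeval (fun i => c i • y i) p = aeval y (θ' p) := by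
    intro p
    have : (aeval (fun i => c i • y i) : MvPolynomial ι K →ₐ[K] B') = (aeval y).comp θ' := by
      refine MvPolynomial.algHom_ext fun i => ?_
      show aeval (fun i => c i • y i) (X i) = aeval y (θ' (X i))
      simp only [θ', aeval_X, map_mul, aeval_C, Algebra.smul_def]
    exact AlgHom.congr_fun this p
  refine ⟨fun j => θ (F j), ?_, ?_, ?_⟩
  · intro b
    obtain ⟨p, rfl⟩ := hsurj b
    exact ⟨θ p, by rw [hy', hθ'θ]⟩
  · intro p
    rw [hy', hker]
    constructor
    · intro h
      have h1 := Ideal.mem_map_of_mem θ.toRingHom h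
      rw [Ideal.map_span] at h1
      have h2 : θ.toRingHom (θ' p) = p := hθθ' p
      rw [h2] at h1
      refine Ideal.span_mono ?_ h1
      rintro _ ⟨_, ⟨j, rfl⟩, rfl⟩
      exact ⟨j, rfl⟩
    · intro h
      have h1 := Ideal.mem_map_of_mem θ'.toRingHom h
      rw [Ideal.map_span] at h1
      refine Ideal.span_mono ?_ h1
      rintro _ ⟨_, ⟨j, rfl⟩, rfl⟩
      exact ⟨j, (hθ'θ _).symm⟩
  · have hM : (Matrix.of fun j k : σ => pderiv (emb k) (θ (F j))) =
        Matrix.of fun j k : σ => C (c' (emb k)) * (θ.mapMatrix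
          (Matrix.of fun j k : σ => pderiv (emb k) (F j))) j k := by
      refine Matrix.ext fun j k => ?_
      show pderiv (emb k) (θ (F j)) = C (c' (emb k)) * θ (pderiv (emb k) (F j))
      exact pderiv_aeval_diag c' (emb k) (F j)
    rw [hM, Matrix.det_mul_row, ← AlgHom.map_det, map_mul, hy' (θ _), hθ'θ]
    refine IsUnit.mul ?_ hunit
    rw [← map_prod, aeval_C]
    refine IsUnit.map (algebraMap K B') ?_
    refine IsUnit.of_mul_eq_one (∏ k, c (emb k)) ?_
    rw [← Finset.prod_mul_distrib]
    exact Finset.prod_eq_one fun k _ => by rw [mul_comm]; exact hcc' _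

end Rescale

section Denoms
variable {R Rₛ : Type*} [CommRing R] [CommRing Rₛ] [Algebra R Rₛ] (S : Submonoid R)
  [IsLocalization S Rₛ] {ι : Type*}

attribute [local instance] MvPolynomial.algebraMvPolynomial in
theorem exists_clear (z : MvPolynomial ι Rₛ) :
    ∃ s ∈ S, ∃ p : MvPolynomial ι R, map (algebraMap R Rₛ) p = C (algebraMap R Rₛ s) * z := by
  obtain ⟨⟨p, m⟩, hpm⟩ := IsLocalization.surj (S.map (C : R →+* MvPolynomial ι R)) z
  obtain ⟨s, hs, hsm⟩ := Submonoid.mem_map.mp m.2
  refine ⟨s, hs, p, ?_⟩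
  rw [MvPolynomial.algebraMap_def] at hpm
  simp only at hpm
  rw [← hsm, map_C] at hpm
  rw [← hpm, mul_comm]

attribute [local instance] MvPolynomial.algebraMvPolynomial in
theorem exists_mul_mem (I : Ideal (MvPolynomial ι R)) (p : MvPolynomial ι R)
    (h : map (algebraMap R Rₛ) p ∈ I.map (map (algebraMap R Rₛ))) : ∃ s ∈ S, C s * p ∈ I := by
  have h' : algebraMap (MvPolynomial ι R) (MvPolynomial ι Rₛ) p ∈
      I.map (algebraMap (MvPolynomial ι R) (MvPolynomial ι Rₛ)) := by
    rw [MvPolynomial.algebraMap_def]; exact h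
  obtain ⟨⟨⟨i, hi⟩, m⟩, hm⟩ :=
    (IsLocalization.mem_map_algebraMap_iff (S.map (C : R →+* MvPolynomial ι R))
      (MvPolynomial ι Rₛ)).mp h'
  rw [← map_mul] at hm
  obtain ⟨m', hm'⟩ := (IsLocalization.eq_iff_exists (S.map (C : R →+* MvPolynomial ι R))
    (MvPolynomial ι Rₛ)).mp hm
  obtain ⟨s, hs, hsm⟩ := Submonoid.mem_map.mp (m' * m).2
  refine ⟨s, hs, ?_⟩
  have h1 : (C s : MvPolynomial ι R) = (m' : MvPolynomial ι R) * (m : MvPolynomial ι R) := by
    rw [hsm]; rfl
  have h2 : C s * p = (m' : MvPolynomial ι R) * i := by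
    rw [h1]
    simp only at hm'
    rw [← hm']; ring
  rw [h2]; exact I.mul_mem_left _ hi

end Denoms

end Groth.Agent.H8.StdEl
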