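import Mathlib
import Groth.Prelude.Def_Smoothing
import Groth.Agent.Lib.Helper8.StdEl.G

set_option autoImplicit false
universe u
open MvPolynomial TensorProduct

namespace Groth.Agent.H8.StdEl

section Core

variable {R A Λ Rₛ B' Λₛ : Type u} [CommRing R] [CommRing A] [Algebra R A] [CommRing Λ]
  [Algebra R Λ] (S : Submonoid R) [CommRing Rₛ] [Algebra R Rₛ] [IsLocalization S Rₛ]
  [CommRing B'] [Algebra Rₛ B'] [CommRing Λₛ] [Algebra R Λₛ] [Algebra Rₛ Λₛ]
  [IsScalarTower R Rₛ Λₛ]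

set_option maxHeartbeats 1600000 in
theorem deloc_core (φ : A →ₐ[R] Λ) {n t : ℕ} (ψ : MvPolynomial (Fin n) R →ₐ[R] A)
    (hψ : Function.Surjective ψ) (gg : Fin t → MvPolynomial (Fin n) R)
    (hgg : RingHom.ker ψ.toRingHom = Ideal.span (Set.range gg))
    (jΛ : Λ →ₐ[R] Λₛ) (hjΛ : ∀ l : Λ, jΛ l = 0 → ∃ s ∈ S, s • l = 0)
    (hΛ : B' →ₐ[Rₛ] Λₛ)
    {ι σ : Type} [Fintype ι] [Fintype σ] [DecidableEq ι] [DecidableEq σ]
    (F : σ → MvPolynomial ι Rₛ) (y : ι → B') (emb : σ ↪ ι)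
    (hsurj : Function.Surjective (aeval y : MvPolynomial ι Rₛ →ₐ[Rₛ] B'))
    (hker : ∀ p : MvPolynomial ι Rₛ, aeval y p = 0 ↔ p ∈ Ideal.span (Set.range F))
    (hunit : IsUnit (aeval y (Matrix.det (Matrix.of fun j k : σ => pderiv (emb k) (F j)))))
    (v : Fin n → ι) (lam : ι → Λ) (hlam : ∀ i, hΛ (y i) = jΛ (lam i))
    (hv : ∀ i, lam (v i) = φ (ψ (X i)))
    (hG : ∀ q : MvPolynomial (Fin n) R, ψ q = 0 →
      aeval y (map (algebraMap R Rₛ) (rename v q)) = 0) :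
    ∃ (B : Type u) (_ : CommRing B) (_ : Algebra R B) (α : A →ₐ[R] B) (β : B →ₐ[R] Λ),
      β.comp α = φ ∧ ∃ s ∈ S, Smoothing.IsElementaryStandard R B (algebraMap R B s) := by
  classical
  -- Step A: clear denominators in the relations
  choose sF hsF Ft hFt using fun j => exists_clear S (F j)
  have hunitS : ∀ s ∈ S, ∃ w : Rₛ, w * algebraMap R Rₛ s = 1 := fun s hs =>
    (IsLocalization.map_units Rₛ (⟨s, hs⟩ : S)).exists_left_inv
  have hspanF : Ideal.span (Set.range F) ≤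
      (Ideal.span (Set.range Ft)).map (map (algebraMap R Rₛ)) := by
    rw [Ideal.span_le]
    rintro _ ⟨j, rfl⟩
    obtain ⟨w, hw⟩ := hunitS (sF j) (hsF j)
    have h1 : F j = C w * map (algebraMap R Rₛ) (Ft j) := by
      rw [hFt, ← mul_assoc, ← C_mul, hw, C_1, one_mul]
    rw [SetLike.mem_coe, h1]
    exact Ideal.mul_mem_left _ _ (Ideal.mem_map_of_mem _ (Ideal.subset_span ⟨j, rfl⟩))
  -- Step B: elements killing the relations in Λ
  have hB : ∀ j, ∃ s ∈ S, s • aeval lam (Ft j) = 0 := by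
    intro j
    apply hjΛ
    have h1 : jΛ (aeval lam (Ft j)) = aeval (fun i => jΛ (lam i)) (Ft j) :=
      comp_aeval_apply lam jΛ (Ft j)
    have h2 : (aeval (fun i => jΛ (lam i)) (Ft j) : Λₛ) =
        aeval (fun i => jΛ (lam i)) (map (algebraMap R Rₛ) (Ft j)) :=
      (aeval_map_algebraMap Rₛ (fun i => jΛ (lam i)) (Ft j)).symm
    have h3 : (aeval (fun i => jΛ (lam i)) (F j) : Λₛ) = 0 := by
      have : (fun i => jΛ (lam i)) = fun i => hΛ (y i) := funext fun i => (hlam i).symm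
      rw [this, ← comp_aeval_apply y hΛ (F j), (hker (F j)).mpr (Ideal.subset_span ⟨j, rfl⟩),
        map_zero]
    rw [h1, h2, hFt, map_mul, h3, mul_zero]
  choose s' hs' hs'0 using hB
  -- Step C: the relations of A
  have hC : ∀ ℓ : Fin t, ∃ s ∈ S, C s * rename v (gg ℓ) ∈ Ideal.span (Set.range Ft) := by
    intro ℓ
    apply exists_mul_mem (Rₛ := Rₛ) S
    apply hspanF
    rw [← hker]
    apply hG
    have : gg ℓ ∈ RingHom.ker ψ.toRingHom := by rw [hgg]; exact Ideal.subset_span ⟨ℓ, rfl⟩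
    exact this
  choose sG hsG hsG' using hC
  -- Step D: the Jacobian
  obtain ⟨Δ, hΔdef⟩ : ∃ Δ : MvPolynomial ι Rₛ,
      Δ = Matrix.det (Matrix.of fun j k : σ => pderiv (emb k) (F j)) := ⟨_, rfl⟩
  obtain ⟨Δt, hΔtdef⟩ : ∃ Δt : MvPolynomial ι R,
      Δt = Matrix.det (Matrix.of fun j k : σ => pderiv (emb k) (Ft j)) := ⟨_, rfl⟩
  have hΔt : map (algebraMap R Rₛ) Δt = C (algebraMap R Rₛ (∏ j, sF j)) * Δ := by
    rw [hΔtdef, hΔdef, RingHom.map_det, map_prod, map_prod, ← Matrix.det_mul_column]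
    congr 1
    refine Matrix.ext fun j k => ?_
    show map (algebraMap R Rₛ) (pderiv (emb k) (Ft j)) =
      C (algebraMap R Rₛ (sF j)) * pderiv (emb k) (F j)
    rw [← pderiv_map, hFt, pderiv_C_mul]
  rw [← hΔdef] at hunit
  obtain ⟨wB, hwB⟩ := hunit.exists_left_inv
  obtain ⟨W, rfl⟩ := hsurj wB
  have hWΔ : W * Δ - 1 ∈ Ideal.span (Set.range F) := by
    rw [← hker, map_sub, map_mul, hwB, map_one, sub_self]
  obtain ⟨sW, hsW, Wt, hWt⟩ := exists_clear S W
  have hD : ∃ s ∈ S, C s * (Wt * Δt - C (sW * ∏ j, sF j)) ∈ Ideal.span (Set.range Ft) := by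
    apply exists_mul_mem (Rₛ := Rₛ) S
    apply hspanF
    have h1 : map (algebraMap R Rₛ) (Wt * Δt - C (sW * ∏ j, sF j)) =
        C (algebraMap R Rₛ (sW * ∏ j, sF j)) * (W * Δ - 1) := by
      rw [map_sub, map_mul, hWt, hΔt, map_C]
      simp only [map_mul, C_mul]
      ring
    rw [h1]
    exact Ideal.mul_mem_left _ _ hWΔ
  obtain ⟨s'', hs'', hs''mem⟩ := hD
  -- Step E: the algebra B
  let rel : σ ⊕ Fin t → MvPolynomial ι R :=
    Sum.elim (fun j => C (s' j) * Ft j) (fun ℓ => rename v (gg ℓ))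
  obtain ⟨J, hJdef⟩ : ∃ J : Ideal (MvPolynomial ι R), J = Ideal.span (Set.range rel) := ⟨_, rfl⟩
  obtain ⟨Jc, hJcdef⟩ : ∃ Jc : Ideal (MvPolynomial ι R),
      Jc = Ideal.span (Set.range (rel ∘ Sum.inl)) := ⟨_, rfl⟩
  have hJcJ : Jc ≤ J := by
    rw [hJcdef, hJdef]
    exact Ideal.span_mono (by rintro _ ⟨j, rfl⟩; exact ⟨Sum.inl j, rfl⟩)
  obtain ⟨sp, hspdef⟩ : ∃ sp : R, sp = ∏ j, s' j := ⟨_, rfl⟩
  have hspS : sp ∈ S := by rw [hspdef]; exact Submonoid.prod_mem _ fun j _ => hs' j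
  have hspFt : ∀ x ∈ Ideal.span (Set.range Ft), C sp * x ∈ Jc := by
    intro x hx
    refine Submodule.span_induction (p := fun x _ => C sp * x ∈ Jc) ?_ ?_ ?_ ?_ hx
    · rintro _ ⟨j, rfl⟩
      have h1 : C sp * Ft j = C (∏ j' ∈ Finset.univ.erase j, s' j') * (C (s' j) * Ft j) := by
        rw [hspdef, ← Finset.prod_erase_mul Finset.univ s' (Finset.mem_univ j), C_mul]
        ring
      rw [h1, hJcdef]
      exact Ideal.mul_mem_left _ _ (Ideal.subset_span ⟨j, rfl⟩)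
    · rw [mul_zero]; exact Jc.zero_mem
    · intro a b _ _ ha hb; rw [mul_add]; exact Jc.add_mem ha hb
    · intro a b _ hb
      rw [smul_eq_mul, mul_left_comm]; exact Jc.mul_mem_left _ hb
  let Φ : MvPolynomial ι R →ₐ[R] (MvPolynomial ι R ⧸ J) := Ideal.Quotient.mkₐ R J
  have hΦsurj : Function.Surjective Φ := Ideal.Quotient.mk_surjective
  have hΦker : RingHom.ker Φ.toRingHom = Ideal.span (Set.range rel) := by
    rw [← hJdef]; exact Ideal.mk_ker
  have hΦ0 : ∀ x, Φ x = 0 ↔ x ∈ J := fun x => Ideal.Quotient.eq_zero_iff_mem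
  -- the minor
  have hminor : Matrix.det (Matrix.of fun j k : σ =>
      pderiv (emb k) (rel ((⟨Sum.inl, Sum.inl_injective⟩ : σ ↪ σ ⊕ Fin t) j))) = C sp * Δt := by
    rw [hΔtdef, hspdef, map_prod, ← Matrix.det_mul_column]
    congr 1
    refine Matrix.ext fun j k => ?_
    show pderiv (emb k) (C (s' j) * Ft j) = C (s' j) * pderiv (emb k) (Ft j)
    rw [pderiv_C_mul]
  obtain ⟨stot, hstotdef⟩ : ∃ stot : R, stot = (∏ ℓ, sG ℓ) * (sp * (s'' * (sW * ∏ j, sF j))) :=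
    ⟨_, rfl⟩
  have hstotS : stot ∈ S := by
    rw [hstotdef]
    exact S.mul_mem (Submonoid.prod_mem _ fun ℓ _ => hsG ℓ) (S.mul_mem hspS (S.mul_mem hs''
      (S.mul_mem hsW (Submonoid.prod_mem _ fun j _ => hsF j))))
  -- maps
  have hlamv : ∀ q : MvPolynomial (Fin n) R, aeval (fun i => lam (v i)) q = φ (ψ q) := by
    intro q
    have : (aeval (fun i => lam (v i)) : MvPolynomial (Fin n) R →ₐ[R] Λ) = φ.comp ψ := by
      refine MvPolynomial.algHom_ext fun i => ?_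
      rw [aeval_X]; exact hv i
    exact AlgHom.congr_fun this q
  have hβ0 : ∀ x ∈ J, aeval lam x = 0 := by
    intro x hx
    rw [hJdef] at hx
    refine Submodule.span_induction (p := fun x _ => aeval lam x = 0) ?_ ?_ ?_ ?_ hx
    · rintro _ ⟨(j | ℓ), rfl⟩
      · show aeval lam (C (s' j) * Ft j) = 0
        rw [map_mul, aeval_C, ← Algebra.smul_def]; exact hs'0 j
      · show aeval lam (rename v (gg ℓ)) = 0
        rw [aeval_rename]
        show aeval (fun i => lam (v i)) (gg ℓ) = 0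
        rw [hlamv]
        have : gg ℓ ∈ RingHom.ker ψ.toRingHom := by rw [hgg]; exact Ideal.subset_span ⟨ℓ, rfl⟩
        rw [show ψ (gg ℓ) = 0 from this, map_zero]
    · exact map_zero _
    · intro a b _ _ ha hb; rw [map_add, ha, hb, add_zero]
    · intro a b _ hb; rw [smul_eq_mul, map_mul, hb, mul_zero]
  let β : (MvPolynomial ι R ⧸ J) →ₐ[R] Λ := Ideal.Quotient.liftₐ J (aeval lam) hβ0
  have hβ : ∀ x, β (Φ x) = aeval lam x := fun x => rfl
  let α₀ : MvPolynomial (Fin n) R →ₐ[R] (MvPolynomial ι R ⧸ J) := Φ.comp (rename v)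
  have hα₀ : ∀ x ∈ RingHom.ker ψ.toRingHom, α₀ x = 0 := by
    intro x hx
    rw [hgg] at hx
    refine Submodule.span_induction (p := fun x _ => α₀ x = 0) ?_ ?_ ?_ ?_ hx
    · rintro _ ⟨ℓ, rfl⟩
      show Φ (rename v (gg ℓ)) = 0
      rw [hΦ0, hJdef]
      exact Ideal.subset_span ⟨Sum.inr ℓ, rfl⟩
    · exact map_zero _
    · intro a b _ _ ha hb; rw [map_add, ha, hb, add_zero]
    · intro a b _ hb; rw [smul_eq_mul, map_mul, hb, mul_zero]
  let e := Ideal.quotientKerAlgEquivOfSurjective hψ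
  let α : A →ₐ[R] (MvPolynomial ι R ⧸ J) :=
    (Ideal.Quotient.liftₐ (RingHom.ker ψ.toRingHom) α₀ hα₀).comp e.symm.toAlgHom
  have hα : ∀ q, α (ψ q) = Φ (rename v q) := by
    intro q
    have h1 : e.symm (ψ q) = Ideal.Quotient.mk _ q := by
      rw [AlgEquiv.symm_apply_eq]; rfl
    show (Ideal.Quotient.liftₐ (RingHom.ker ψ.toRingHom) α₀ hα₀) (e.symm (ψ q)) = _
    rw [h1]; rfl
  refine ⟨MvPolynomial ι R ⧸ J, inferInstance, inferInstance, α, β, ?_, stot, hstotS, ?_⟩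
  · refine AlgHom.ext fun a => ?_
    obtain ⟨q, rfl⟩ := hψ a
    show β (α (ψ q)) = φ (ψ q)
    rw [hα, hβ, aeval_rename]
    exact hlamv q
  · refine isElementaryStandard_of_finite rel Φ hΦsurj hΦker
      (⟨Sum.inl, Sum.inl_injective⟩ : σ ↪ σ ⊕ Fin t) emb (algebraMap R _ stot)
      (Φ (C (∏ ℓ, sG ℓ) * (C s'' * Wt))) ?_ ?_
    · rw [hminor, ← map_mul]
      have h1 : algebraMap R (MvPolynomial ι R ⧸ J) stot = Φ (C stot) := rfl
      rw [h1, ← sub_eq_zero, ← map_sub, hΦ0]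
      have h2 : C stot - C (∏ ℓ, sG ℓ) * (C s'' * Wt) * (C sp * Δt) =
          - (C (∏ ℓ, sG ℓ) * (C sp * (C s'' * (Wt * Δt - C (sW * ∏ j, sF j))))) := by
        rw [hstotdef]
        simp only [C_mul]
        ring
      rw [h2]
      exact J.neg_mem (J.mul_mem_left _ (hJcJ (hspFt _ hs''mem)))
    · intro a₁ ha₁ ℓ
      have h1 : a₁ - C stot ∈ J := by
        rw [← hΦ0, map_sub, ha₁]; exact sub_self _
      have h2 : a₁ * rel ℓ = C stot * rel ℓ + (a₁ - C stot) * rel ℓ := by ring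
      rw [h2]
      show C stot * rel ℓ + (a₁ - C stot) * rel ℓ ∈
        Ideal.span (Set.range (rel ∘ Sum.inl)) ⊔ Ideal.span (Set.range rel) ^ 2
      rw [← hJdef, ← hJcdef]
      refine Ideal.add_mem _ (Ideal.mem_sup_left ?_) (Ideal.mem_sup_right ?_)
      · rcases ℓ with j | ℓ
        · rw [hJcdef]
          exact Ideal.mul_mem_left _ _ (Ideal.subset_span ⟨j, rfl⟩)
        · show C stot * rename v (gg ℓ) ∈ Jc
          have h3 : C stot * rename v (gg ℓ) =
              C ((∏ ℓ' ∈ Finset.univ.erase ℓ, sG ℓ') * (s'' * (sW * ∏ j, sF j))) *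
                (C sp * (C (sG ℓ) * rename v (gg ℓ))) := by
            rw [hstotdef, ← Finset.prod_erase_mul Finset.univ sG (Finset.mem_univ ℓ)]
            simp only [C_mul]
            ring
          rw [h3]
          exact Jc.mul_mem_left _ (hspFt _ (hsG' ℓ))
      · rw [pow_two]
        refine Ideal.mul_mem_mul h1 ?_
        rw [hJdef]; exact Ideal.subset_span ⟨ℓ, rfl⟩

end Core

end Groth.Agent.H8.StdEl
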