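import Mathlib
import Groth.Prelude.Def_Smoothing
import Groth.Agent.Lib.Helper8.StdEl.H
import Groth.Agent.Lib.Helper8.SmLift.PresContain
import Groth.Agent.Lib.Helper5.SymSmooth.G

set_option autoImplicit false
universe u
open MvPolynomial TensorProduct

namespace Groth.Agent.H8.StdEl

section
variable {R A Λ Rₛ B' : Type u} [CommRing R] [CommRing A] [Algebra R A]
  [Algebra.FinitePresentation R A] [CommRing Λ] [Algebra R Λ] (φ : A →ₐ[R] Λ) (S : Submonoid R)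
  [CommRing Rₛ] [Algebra R Rₛ] [IsLocalization S Rₛ] [CommRing B'] [Algebra Rₛ B']

set_option maxHeartbeats 1600000 in
theorem deloc_std [Algebra R B'] [IsScalarTower R Rₛ B'] [Algebra.IsStandardSmooth Rₛ B']
    (g : Rₛ ⊗[R] A →ₐ[Rₛ] B') (h : B' →ₐ[Rₛ] Rₛ ⊗[R] Λ)
    (hgh : h.comp g = Algebra.TensorProduct.map (AlgHom.id Rₛ Rₛ) φ) :
    ∃ (B : Type u) (_ : CommRing B) (_ : Algebra R B) (α : A →ₐ[R] B) (β : B →ₐ[R] Λ),
      β.comp α = φ ∧ ∃ s ∈ S, Smoothing.IsElementaryStandard R B (algebraMap R B s) := by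
  classical
  obtain ⟨n, ψ, hψ, hfg⟩ := Algebra.FinitePresentation.out (R := R) (A := A)
  obtain ⟨t, gg, hgg'⟩ := Submodule.fg_iff_exists_fin_generating_family.mp hfg
  have hgg : RingHom.ker ψ.toRingHom = Ideal.span (Set.range gg) := hgg'.symm
  -- the map A → B'
  let gA : A →ₐ[R] B' := (g.restrictScalars R).comp Algebra.TensorProduct.includeRight
  have hgA : ∀ a, gA a = g (1 ⊗ₜ a) := fun a => rfl
  let b : Fin n → B' := fun i => gA (ψ (X i))
  have hhg : ∀ a : A, h (gA a) = (1 : Rₛ) ⊗ₜ[R] φ a := by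
    intro a
    have := AlgHom.congr_fun hgh (1 ⊗ₜ a)
    rw [hgA]
    simpa using this
  -- the presentation
  obtain ⟨ι₀, σ₀, hσ₀, hι₀, ⟨P₀⟩⟩ := Algebra.IsStandardSmooth.out (R := Rₛ) (S := B')
  have := hσ₀
  have := hι₀
  haveI := Fintype.ofFinite ι₀
  haveI := Fintype.ofFinite σ₀
  let PP : Algebra.SubmersivePresentation Rₛ B' (Fin n ⊕ ι₀) (Fin n ⊕ σ₀) :=
    (SmLift.selfSub b).comp P₀
  let v : Fin n → Fin n ⊕ ι₀ := fun i => PP.map (Sum.inl i)
  have hvinj : Function.Injective v := PP.map_inj.comp Sum.inl_injective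
  have hvb : ∀ i, PP.val (v i) = b i := fun i => rfl
  have hsurj₀ : Function.Surjective (aeval PP.val : MvPolynomial (Fin n ⊕ ι₀) Rₛ →ₐ[Rₛ] B') :=
    PP.aeval_val_surjective
  have hker₀ : ∀ p : MvPolynomial (Fin n ⊕ ι₀) Rₛ,
      aeval PP.val p = 0 ↔ p ∈ Ideal.span (Set.range PP.relation) := by
    intro p
    rw [PP.span_range_relation_eq_ker, Algebra.Generators.ker_eq_ker_aeval_val]
    exact Iff.rfl
  have hunit₀ : IsUnit (aeval PP.val (Matrix.det (Matrix.of fun j k : Fin n ⊕ σ₀ =>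
      pderiv (PP.map k) (PP.relation j)))) := by
    have h1 := PP.jacobian_isUnit
    rw [Algebra.PreSubmersivePresentation.jacobian_eq_jacobiMatrix_det,
      Algebra.Generators.algebraMap_apply, ← Matrix.det_transpose] at h1
    convert h1 using 3
    refine Matrix.ext fun j k => ?_
    rw [Matrix.transpose_apply, Algebra.PreSubmersivePresentation.jacobiMatrix_apply]
    rfl
  -- localization facts for Λ
  haveI hloc : IsLocalizedModule S (TensorProduct.mk R Rₛ Λ 1) :=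
    (isLocalizedModule_iff_isBaseChange S Rₛ _).mpr (TensorProduct.isBaseChange R Λ Rₛ)
  let jΛ : Λ →ₐ[R] Rₛ ⊗[R] Λ := Algebra.TensorProduct.includeRight
  have hjΛ : ∀ l : Λ, jΛ l = 0 → ∃ s ∈ S, s • l = 0 := by
    intro l hl
    obtain ⟨c, hc⟩ := (IsLocalizedModule.eq_zero_iff S (TensorProduct.mk R Rₛ Λ 1)).mp hl
    exact ⟨c, c.2, hc⟩
  -- denominators
  have hden : ∀ i : Fin n ⊕ ι₀, ∃ (u : R) (l : Λ), u ∈ S ∧
      algebraMap R Rₛ u • h (PP.val i) = jΛ l ∧ (∀ i₀, v i₀ = i → u = 1 ∧ l = φ (ψ (X i₀))) := by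
    intro i
    by_cases hi : ∃ i₀, v i₀ = i
    · obtain ⟨i₀, rfl⟩ := hi
      refine ⟨1, φ (ψ (X i₀)), S.one_mem, ?_, fun i₁ hi₁ => ?_⟩
      · rw [map_one, one_smul, hvb]
        exact hhg _
      · rw [hvinj hi₁]; exact ⟨rfl, rfl⟩
    · obtain ⟨⟨l, u⟩, hul⟩ := IsLocalizedModule.surj S (TensorProduct.mk R Rₛ Λ 1) (h (PP.val i))
      refine ⟨u, l, u.2, ?_, fun i₀ hi₀ => (hi ⟨i₀, hi₀⟩).elim⟩
      rw [algebraMap_smul]
      exact hul
  choose u lam huS hul huv using hden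
  let c : Fin n ⊕ ι₀ → Rₛ := fun i => algebraMap R Rₛ (u i)
  have hc' : ∀ i, ∃ w : Rₛ, c i * w = 1 := fun i =>
    (IsLocalization.map_units Rₛ (⟨u i, huS i⟩ : S)).exists_right_inv
  choose c' hcc' using hc'
  obtain ⟨F', hsurj, hker, hunit⟩ := rescale PP.relation PP.val PP.map hsurj₀ hker₀ hunit₀ c c' hcc'
  have hy'v : ∀ i, c (v i) • PP.val (v i) = b i := by
    intro i
    show algebraMap R Rₛ (u (v i)) • PP.val (v i) = b i
    rw [(huv (v i) i rfl).1, map_one, one_smul, hvb]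
  refine deloc_core S φ ψ hψ gg hgg jΛ hjΛ h F' (fun i => c i • PP.val i)
    ⟨PP.map, PP.map_inj⟩ hsurj hker hunit v lam ?_ ?_ ?_
  · intro i
    rw [map_smul]
    exact hul i
  · intro i
    exact (huv (v i) i rfl).2
  · intro q hq
    rw [aeval_map_algebraMap, aeval_rename]
    have h1 : (aeval ((fun i => c i • PP.val i) ∘ v) : MvPolynomial (Fin n) R →ₐ[R] B') =
        gA.comp ψ := by
      refine MvPolynomial.algHom_ext fun i => ?_
      rw [aeval_X]
      exact hy'v i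
    rw [h1]
    show gA (ψ q) = 0
    rw [hq, map_zero]

theorem deloc_main [Algebra.Smooth Rₛ B']
    (g : Rₛ ⊗[R] A →ₐ[Rₛ] B') (h : B' →ₐ[Rₛ] Rₛ ⊗[R] Λ)
    (hgh : h.comp g = Algebra.TensorProduct.map (AlgHom.id Rₛ Rₛ) φ) :
    ∃ (B : Type u) (_ : CommRing B) (_ : Algebra R B) (α : A →ₐ[R] B) (β : B →ₐ[R] Λ),
      β.comp α = φ ∧ ∃ s ∈ S, Smoothing.IsElementaryStandard R B (algebraMap R B s) := by
  obtain ⟨B'', _, _, _, _, -, ⟨r⟩, hstd⟩ :=
    Groth.Agent.H5.SymSmooth.exists_isStandardSmooth_retraction (R := Rₛ) (A := B')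
  letI : Algebra R B'' := Algebra.compHom B'' (algebraMap R Rₛ)
  haveI : IsScalarTower R Rₛ B'' := IsScalarTower.of_algebraMap_eq fun _ => rfl
  refine deloc_std φ S ((IsScalarTower.toAlgHom Rₛ B' B'').comp g)
    (h.comp (r.restrictScalars Rₛ)) ?_
  rw [← hgh]
  refine AlgHom.ext fun x => ?_
  show h (r (algebraMap B' B'' (g x))) = h (g x)
  rw [r.commutes]
  rfl

end

end Groth.Agent.H8.StdEl
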