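import Mathlib
import Groth.Agent.Lib.Helper8.StdEl.A

set_option autoImplicit false
universe u
open MvPolynomial

namespace Groth.Agent.H8.StdEl

/-- Over a local ring: if `Λ^n / rowspan W` is projective, there are rows and columns with a unit
minor such that the chosen rows span the row space. -/
theorem exists_rows_cols {Λ : Type*} [CommRing Λ] [IsLocalRing Λ] {n m : ℕ} (W : Fin m → Fin n → Λ)
    {M : Type*} [AddCommGroup M] [Module Λ M] [Module.Projective Λ M]
    (π : (Fin n → Λ) →ₗ[Λ] M) (hπ : Function.Surjective π)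
    (hker : LinearMap.ker π = Submodule.span Λ (Set.range W)) :
    ∃ (c : ℕ) (rows : Fin c ↪ Fin m) (cols : Fin c ↪ Fin n),
      IsUnit (Matrix.det (Matrix.of fun j k => W (rows j) (cols k))) ∧
      ∀ ℓ, W ℓ ∈ Submodule.span Λ (Set.range fun j => W (rows j)) := by
  classical
  let Wb : Fin m → Fin n → IsLocalRing.ResidueField Λ := fun ℓ i => IsLocalRing.residue Λ (W ℓ i)
  obtain ⟨c, rows, cols, hdet, hspan⟩ := exists_minor Wb
  refine ⟨c, rows, cols, ?_, ?_⟩
  · have h1 : IsLocalRing.residue Λ (Matrix.det (Matrix.of fun j k => W (rows j) (cols k))) =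
        Matrix.det (Matrix.of fun j k => Wb (rows j) (cols k)) := by
      rw [RingHom.map_det]; rfl
    by_contra hnu
    have h2 : Matrix.det (Matrix.of fun j k => W (rows j) (cols k)) ∈ IsLocalRing.maximalIdeal Λ :=
      (IsLocalRing.mem_maximalIdeal _).mpr hnu
    rw [← IsLocalRing.residue_eq_zero_iff, h1] at h2
    exact hdet h2
  · obtain ⟨N, hNdef⟩ : ∃ N : Submodule Λ (Fin n → Λ), N = LinearMap.ker π := ⟨_, rfl⟩
    obtain ⟨N', hN'def⟩ : ∃ N' : Submodule Λ (Fin n → Λ),
        N' = Submodule.span Λ (Set.range fun j => W (rows j)) := ⟨_, rfl⟩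
    rw [← hN'def]
    obtain ⟨s, hs⟩ := Module.projective_lifting_property π LinearMap.id hπ
    have hsπ : ∀ y, π (s y) = y := fun y => LinearMap.congr_fun hs y
    have hNmem : ∀ x, x ∈ N ↔ π x = 0 := fun x => by rw [hNdef]; exact LinearMap.mem_ker
    have hWN : ∀ ℓ, W ℓ ∈ N := fun ℓ => by
      rw [hNdef, hker]; exact Submodule.subset_span ⟨ℓ, rfl⟩
    have hkey : ∀ x ∈ N, (∀ i, x i ∈ IsLocalRing.maximalIdeal Λ) →
        x ∈ IsLocalRing.maximalIdeal Λ • N := by
      intro x hxN hxm
      have hx : x = ∑ i, x i • (Pi.single i 1 : Fin n → Λ) := by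
        ext j; simp [Finset.sum_apply, Pi.single_apply]
      have hE : ∀ y : Fin n → Λ, y - s (π y) ∈ N := fun y => by
        rw [hNmem, map_sub, hsπ, sub_self]
      have hx2 : x = ∑ i, x i • ((Pi.single i 1 : Fin n → Λ) - s (π (Pi.single i 1))) := by
        have h0 : π x = 0 := (hNmem x).mp hxN
        have h3 : ∑ i, x i • s (π (Pi.single i 1 : Fin n → Λ)) = s (π x) := by
          conv_rhs => rw [hx]
          simp only [map_sum, map_smul]
        simp only [smul_sub, Finset.sum_sub_distrib]
        rw [h3, h0, map_zero, sub_zero]; exact hx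
      rw [hx2]
      exact Submodule.sum_mem _ fun i _ => Submodule.smul_mem_smul (hxm i) (hE _)
    have hle : N ≤ N' ⊔ IsLocalRing.maximalIdeal Λ • N := by
      conv_lhs => rw [hNdef, hker]
      rw [Submodule.span_le]
      rintro _ ⟨ℓ, rfl⟩
      obtain ⟨cb, hcb⟩ := (Submodule.mem_span_range_iff_exists_fun _).mp (hspan ℓ)
      choose cl hcl using fun j => IsLocalRing.residue_surjective (cb j)
      have hx : W ℓ - ∑ j, cl j • W (rows j) ∈ IsLocalRing.maximalIdeal Λ • N := by
        apply hkey
        · exact N.sub_mem (hWN ℓ) (N.sum_mem fun j _ => N.smul_mem _ (hWN _))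
        · intro i
          rw [← IsLocalRing.residue_eq_zero_iff]
          have h4 := congrFun hcb i
          simp only [Finset.sum_apply, Pi.smul_apply, smul_eq_mul, Function.comp] at h4
          simp only [Pi.sub_apply, Finset.sum_apply, Pi.smul_apply, smul_eq_mul, map_sub, map_sum,
            map_mul, hcl]
          show Wb ℓ i - ∑ j, cb j * Wb (rows j) i = 0
          rw [h4]
          exact sub_self _
      have h5 : W ℓ = ∑ j, cl j • W (rows j) + (W ℓ - ∑ j, cl j • W (rows j)) := by abel
      rw [SetLike.mem_coe, h5]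
      refine Submodule.add_mem _ (Submodule.mem_sup_left ?_) (Submodule.mem_sup_right hx)
      rw [hN'def]
      exact Submodule.sum_mem _ fun j _ => Submodule.smul_mem _ _ (Submodule.subset_span ⟨j, rfl⟩)
    have hNfg : N.FG := by
      rw [hNdef, hker]; exact Submodule.fg_span (Set.finite_range W)
    have hfin := Submodule.le_of_le_smul_of_le_jacobson_bot hNfg
      (IsLocalRing.maximalIdeal_le_jacobson _) hle
    intro ℓ
    exact hfin (hWN ℓ)

theorem cramer_aux {K : Type*} [CommRing K] {c : ℕ} (N : Matrix (Fin c) (Fin c) K)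
    (mu b : Fin c → K) (h : ∀ k, b k = ∑ j, mu j * N j k) (j : Fin c) :
    N.det * mu j = ∑ k, b k * N.adjugate k j := by
  have h1 : b = Matrix.vecMul mu N := by
    ext k; rw [h]; rfl
  have h2 : Matrix.vecMul b N.adjugate = N.det • mu := by
    rw [h1, Matrix.vecMul_vecMul, Matrix.mul_adjugate, Matrix.vecMul_smul, Matrix.vecMul_one]
  have h3 := congrFun h2 j
  rw [Pi.smul_apply, smul_eq_mul] at h3
  rw [← h3]; rfl

/-- The polynomial combination `Δ f_ℓ - Σ r_j f_{rows j}` all of whose partial derivatives die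
under `ι`, obtained by Cramer's rule from a linear dependence of the gradients. -/
theorem exists_comb {R : Type*} [CommRing R] {n m c : ℕ} (f : Fin m → MvPolynomial (Fin n) R)
    {K : Type*} [CommRing K] (ι : MvPolynomial (Fin n) R →+* K) (hf : ∀ ℓ, ι (f ℓ) = 0)
    (rows : Fin c → Fin m) (cols : Fin c → Fin n) (ℓ : Fin m)
    (hspan : (fun i => ι (pderiv i (f ℓ))) ∈
      Submodule.span K (Set.range fun j => (fun i => ι (pderiv i (f (rows j)))))) :
    ∃ r : Fin c → MvPolynomial (Fin n) R, ∀ i,
      ι (pderiv i (Matrix.det (Matrix.of fun j k => pderiv (cols k) (f (rows j))) * f ℓ -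
        ∑ j, r j * f (rows j))) = 0 := by
  classical
  obtain ⟨mu, hmu⟩ := (Submodule.mem_span_range_iff_exists_fun K).mp hspan
  have hmu' : ∀ i, ι (pderiv i (f ℓ)) = ∑ j, mu j * ι (pderiv i (f (rows j))) := by
    intro i
    have := congrFun hmu i
    simp only [Finset.sum_apply, Pi.smul_apply, smul_eq_mul] at this
    exact this.symm
  let Nt : Matrix (Fin c) (Fin c) (MvPolynomial (Fin n) R) :=
    Matrix.of fun j k => pderiv (cols k) (f (rows j))
  let N : Matrix (Fin c) (Fin c) K := ι.mapMatrix Nt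
  have hNapp : ∀ j k, N j k = ι (pderiv (cols k) (f (rows j))) := fun j k => rfl
  let r : Fin c → MvPolynomial (Fin n) R := fun j =>
    ∑ k, pderiv (cols k) (f ℓ) * Nt.adjugate k j
  have hr : ∀ j, ι (r j) = N.det * mu j := by
    intro j
    rw [cramer_aux N mu (fun k => ι (pderiv (cols k) (f ℓ)))
      (fun k => by rw [hmu']; rfl) j]
    simp only [r, map_sum, map_mul]
    refine Finset.sum_congr rfl fun k _ => ?_
    congr 1
    show ι (Nt.adjugate k j) = (ι.mapMatrix Nt).adjugate k j
    rw [← RingHom.map_adjugate]; rfl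
  have hdet : ι Nt.det = N.det := by rw [RingHom.map_det]
  refine ⟨r, fun i => ?_⟩
  have h1 : pderiv i (Nt.det * f ℓ - ∑ j, r j * f (rows j)) =
      (Nt.det * pderiv i (f ℓ) - ∑ j, r j * pderiv i (f (rows j))) +
        (f ℓ * pderiv i Nt.det - ∑ j, f (rows j) * pderiv i (r j)) := by
    simp only [map_sub, map_sum, Derivation.leibniz, smul_eq_mul, Finset.sum_add_distrib]
    ring
  show ι (pderiv i (Nt.det * f ℓ - ∑ j, r j * f (rows j))) = 0
  rw [h1, map_add]
  have h2 : ι (f ℓ * pderiv i Nt.det - ∑ j, f (rows j) * pderiv i (r j)) = 0 := by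
    simp only [map_sub, map_sum, map_mul, hf, zero_mul, Finset.sum_const_zero, sub_zero]
  rw [h2, add_zero, map_sub, map_mul, map_sum, hdet, hmu', Finset.mul_sum]
  simp only [map_mul, hr]
  rw [sub_eq_zero]
  refine Finset.sum_congr rfl fun j _ => ?_
  ring

end Groth.Agent.H8.StdEl
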