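import Mathlib
import Groth.Prelude
import Groth.Agent.Lib.Helper8.StdEl.E
import Groth.Agent.Lib.Helper8.RGCI.Main9170

set_option autoImplicit false
universe u
open MvPolynomial

namespace Groth.Agent.H8.StdEl

theorem rows_surj_aux {P : Type*} [CommRing P] (J : Ideal P) {c c' : ℕ} (F : Fin c → P)
    (hFmem : ∀ i, F i ∈ J)
    (hli : LinearIndependent (P ⧸ J) (fun i => J.toCotangent ⟨F i, hFmem i⟩))
    (rows : Fin c' → Fin c) (ℓ : Fin c) (hℓ : ∀ j, rows j ≠ ℓ) (a₁ : P)
    (h1 : a₁ * F ℓ ∈ Ideal.span (Set.range (F ∘ rows)) ⊔ J ^ 2) :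
    Ideal.Quotient.mk J a₁ = 0 := by
  classical
  obtain ⟨y, hy, z, hz, hyz⟩ := Submodule.mem_sup.mp h1
  obtain ⟨r, hr⟩ := (Ideal.mem_span_range_iff_exists_fun).mp hy
  have hrel : a₁ • J.toCotangent ⟨F ℓ, hFmem ℓ⟩ =
      ∑ j, r j • J.toCotangent ⟨F (rows j), hFmem _⟩ := by
    have e1 : (⟨a₁ * F ℓ, J.mul_mem_left _ (hFmem ℓ)⟩ : J) =
        (∑ j, r j • (⟨F (rows j), hFmem _⟩ : J)) + ⟨z, Ideal.pow_le_self two_ne_zero hz⟩ := by
      apply Subtype.ext
      rw [Submodule.coe_add, Submodule.coe_sum]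
      simp only [Submodule.coe_smul, smul_eq_mul, Function.comp] at hr ⊢
      rw [hr, hyz]
    have e2 : J.toCotangent ⟨z, Ideal.pow_le_self two_ne_zero hz⟩ = 0 := by
      rw [Ideal.toCotangent_eq_zero]; exact hz
    have e3 : a₁ • J.toCotangent ⟨F ℓ, hFmem ℓ⟩ =
        J.toCotangent ⟨a₁ * F ℓ, J.mul_mem_left _ (hFmem ℓ)⟩ := by
      rw [← map_smul]; rfl
    rw [e3, e1, map_add, e2, add_zero, map_sum]
    simp only [map_smul]
  have hconv : ∀ (p : P) (x : J.Cotangent), (Ideal.Quotient.mk J p) • x = p • x := fun p x => by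
    rw [← Ideal.Quotient.algebraMap_eq, algebraMap_smul]
  have hs1 : ∑ i, (if i = ℓ then Ideal.Quotient.mk J a₁ else 0) • J.toCotangent ⟨F i, hFmem i⟩ =
      a₁ • J.toCotangent ⟨F ℓ, hFmem ℓ⟩ := by
    rw [Finset.sum_eq_single ℓ]
    · rw [if_pos rfl, hconv]
    · intro i _ hi; rw [if_neg hi, zero_smul]
    · intro h; exact absurd (Finset.mem_univ ℓ) h
  have hs2 : ∑ i, (∑ j, if rows j = i then Ideal.Quotient.mk J (r j) else 0) •
      J.toCotangent ⟨F i, hFmem i⟩ = ∑ j, r j • J.toCotangent ⟨F (rows j), hFmem _⟩ := by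
    simp_rw [Finset.sum_smul]
    rw [Finset.sum_comm]
    refine Finset.sum_congr rfl fun j _ => ?_
    rw [Finset.sum_eq_single (rows j)]
    · rw [if_pos rfl, hconv]
    · intro i _ hi; rw [if_neg (Ne.symm hi), zero_smul]
    · intro h; exact absurd (Finset.mem_univ _) h
  have hli' := Fintype.linearIndependent_iff.mp hli
    (fun i => (if i = ℓ then Ideal.Quotient.mk J a₁ else 0) -
      ∑ j, if rows j = i then Ideal.Quotient.mk J (r j) else 0) ?_ ℓ
  · simp only [if_true] at hli'
    have h0 : ∑ j, (if rows j = ℓ then Ideal.Quotient.mk J (r j) else 0) = 0 :=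
      Finset.sum_eq_zero fun j _ => if_neg (hℓ j)
    rw [h0, sub_zero] at hli'
    exact hli'
  · simp only [sub_smul, Finset.sum_sub_distrib]
    rw [hs1, hs2, hrel, sub_self]

theorem jac_relGCI (R : Type u) [CommRing R] (n c : ℕ)
    (F : Fin c → MvPolynomial (Fin n) R) (hF : Synt.IsRelGCI R n c F)
    (q : Ideal (Synt.RelGCIRing R n c F)) [q.IsPrime] :
    Algebra.IsSmoothAt R q ↔ ∃ I : Fin c ↪ Fin n,
      Ideal.Quotient.mk (Ideal.span (Set.range F))
        (Matrix.det (Matrix.of fun j i => MvPolynomial.pderiv (I i) (F j))) ∉ q := by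
  classical
  let φ : MvPolynomial (Fin n) R →ₐ[R] Synt.RelGCIRing R n c F :=
    Ideal.Quotient.mkₐ R (Ideal.span (Set.range F))
  have hφ : Function.Surjective φ := Ideal.Quotient.mk_surjective
  have hker : RingHom.ker φ.toRingHom = Ideal.span (Set.range F) := Ideal.mk_ker
  haveI : Algebra.FinitePresentation R (Synt.RelGCIRing R n c F) :=
    Algebra.FinitePresentation.quotient (Submodule.fg_span (Set.finite_range F))
  constructor
  · intro hsm
    haveI : Algebra.IsSmoothAt R q := hsm
    obtain ⟨a, haq, c', rows, cols, a', haa', hkill⟩ := main F φ hφ hker q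
    haveI hq'prime : (q.comap (Ideal.Quotient.mk (Ideal.span (Set.range F)))).IsPrime :=
      Ideal.comap_isPrime _ _
    have hq'le : Ideal.span (Set.range F) ≤
        q.comap (Ideal.Quotient.mk (Ideal.span (Set.range F))) := by
      intro x hx
      rw [Ideal.mem_comap, Ideal.Quotient.eq_zero_iff_mem.mpr hx]
      exact q.zero_mem
    obtain ⟨-, -, hli, -⟩ := Groth.Agent.H8.RGCI.main9170 R n c F hF _ hq'le
    have hsurj : Function.Surjective rows := by
      intro ℓ
      by_contra hℓ
      push Not at hℓ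
      obtain ⟨a₁, ha₁⟩ := hφ a
      have h1 := hkill a₁ ha₁ ℓ
      have h0 := rows_surj_aux (Ideal.span (Set.range F)) F
        (fun i => Ideal.subset_span (Set.mem_range_self i)) hli rows ℓ hℓ a₁ h1
      apply haq
      have : a = Ideal.Quotient.mk _ a₁ := ha₁.symm
      rw [this, h0]
      exact q.zero_mem
    let e : Fin c' ≃ Fin c := Equiv.ofBijective rows ⟨rows.injective, hsurj⟩
    have hcc : c' = c := by simpa using Fintype.card_congr e
    subst hcc
    refine ⟨cols, fun hmem => haq ?_⟩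
    rw [haa']
    refine q.mul_mem_left _ ?_
    have h2 : Smoothing.jacobianMinor F rows cols =
        (Equiv.Perm.sign e : ℤ) • Matrix.det (Matrix.of fun j i => pderiv (cols i) (F j)) := by
      unfold Smoothing.jacobianMinor
      have : (Matrix.of fun j k : Fin c' => pderiv (cols k) (F (rows j))) =
          (Matrix.of fun j i : Fin c' => pderiv (cols i) (F j)).submatrix e id := by
        refine Matrix.ext fun j k => ?_
        rfl
      rw [this, Matrix.det_permute]
      simp
    rw [h2, map_zsmul]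
    exact zsmul_mem hmem _
  · rintro ⟨I, hI⟩
    have hcn : c ≤ n := by simpa using Fintype.card_le_of_embedding I
    let P : Smoothing.MarkedPresentation R (Synt.RelGCIRing R n c F) :=
      { n := n, m := c, c := c, hcn := hcn, hcm := le_refl c, rel := F, hom := φ, surj := hφ,
        ker_eq := hker }
    obtain ⟨Δ, hΔ⟩ : ∃ Δ : Synt.RelGCIRing R n c F, Δ =
        Ideal.Quotient.mk (Ideal.span (Set.range F))
          (Matrix.det (Matrix.of fun j i => MvPolynomial.pderiv (I i) (F j))) := ⟨_, rfl⟩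
    rw [← hΔ] at hI
    have hkill : Smoothing.KillsTail P Δ := by
      intro a' _ j hj
      exact absurd (lt_of_lt_of_le j.2 hj) (lt_irrefl _)
    haveI := isStandardSmooth_of_minor P I I.injective Δ ⟨1, by
      rw [one_mul, hΔ]
      show _ = φ _
      congr 1⟩ hkill
    have hsm : Algebra.Smooth R (Localization.Away Δ) := inferInstance
    have := (Algebra.basicOpen_subset_smoothLocus_iff_smooth (R := R)
      (A := Synt.RelGCIRing R n c F) (f := Δ)).mpr hsm
    exact this (show (⟨q, ‹_›⟩ : PrimeSpectrum _) ∈ (PrimeSpectrum.basicOpen Δ : Set _) from hI)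

end Groth.Agent.H8.StdEl
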