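import Mathlib
import Groth.Agent.Lib.Helper8.J2.J4
import Groth.Agent.Lib.Helper7.Reg1

set_option autoImplicit false
universe u
open MvPolynomial

namespace Groth.Agent.H8.StdEl

/-- `(R[x]/(v))_Δ` is standard smooth for `Δ` a maximal minor of the Jacobian matrix. -/
theorem isStandardSmooth_away_minor {R : Type u} [CommRing R] {n c : ℕ}
    (v : Fin c → MvPolynomial (Fin n) R) (col : Fin c → Fin n) (hcol : Function.Injective col) :
    Algebra.IsStandardSmooth R (Localization.Away (Ideal.Quotient.mk (Ideal.span (Set.range v))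
      (Matrix.det (Matrix.of fun j k => pderiv (col k) (v j))))) := by
  classical
  let S := MvPolynomial (Fin n) R
  let Δ : S := Matrix.det (Matrix.of fun j k => pderiv (col k) (v j))
  let s : S ⧸ Ideal.span (Set.range v) := Ideal.Quotient.mk _ Δ
  let P₁ : Algebra.PreSubmersivePresentation R (S ⧸ Ideal.span (Set.range v)) (Fin n) (Fin c) :=
    Algebra.PreSubmersivePresentation.naive (v := v) col hcol
  let P₂ : Algebra.SubmersivePresentation (S ⧸ Ideal.span (Set.range v)) (Localization.Away s)
      Unit Unit := Algebra.SubmersivePresentation.localizationAway (Localization.Away s) s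
  let P₃ : Algebra.PreSubmersivePresentation R (Localization.Away s) (Unit ⊕ Fin n)
      (Unit ⊕ Fin c) := P₂.toPreSubmersivePresentation.comp P₁
  have hjac : IsUnit P₃.jacobian := by
    show IsUnit (P₂.toPreSubmersivePresentation.comp P₁).jacobian
    rw [Algebra.PreSubmersivePresentation.comp_jacobian_eq_jacobian_smul_jacobian,
      Algebra.smul_def, IsUnit.mul_iff]
    refine ⟨?_, P₂.jacobian_isUnit⟩
    have h1 : P₁.jacobian = s := by
      rw [Algebra.PreSubmersivePresentation.jacobian_eq_jacobiMatrix_det]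
      show Ideal.Quotient.mk _ (P₁.jacobiMatrix.det) = Ideal.Quotient.mk _ Δ
      congr 1
      show _ = Matrix.det _
      rw [← Matrix.det_transpose]
      congr 1
      refine Matrix.ext fun i j => ?_
      rw [Matrix.transpose_apply]
      show (Algebra.PreSubmersivePresentation.naive (v := v) col hcol).jacobiMatrix j i = _
      rw [Algebra.PreSubmersivePresentation.jacobiMatrix_naive]
      rfl
    rw [h1]
    exact IsLocalization.Away.algebraMap_isUnit s
  exact (⟨P₃, hjac⟩ : Algebra.SubmersivePresentation R (Localization.Away s) _ _).isStandardSmooth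

/-- If `B → A` is surjective, `B_𝔭B` is a domain formally smooth over `R`, and the kernel is killed
by an element `t` which is nonzero at a point of a domain `Λ` through which `𝔭` is seen, then
`A_𝔭` is formally smooth. -/
theorem formallySmooth_of_cover {R B A Bp Ap Λ : Type*} [CommRing R] [CommRing B] [CommRing A]
    [CommRing Bp] [CommRing Ap] [CommRing Λ] [IsDomain Λ]
    [Algebra R B] [Algebra R A] [Algebra B A] [IsScalarTower R B A]
    [Algebra B Bp] [Algebra R Bp] [IsScalarTower R B Bp]
    [Algebra A Ap] [Algebra R Ap] [IsScalarTower R A Ap] [Algebra B Ap] [IsScalarTower B A Ap]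
    [IsScalarTower R B Ap]
    (hπ : Function.Surjective (algebraMap B A)) (ρ : A →+* Λ) (𝔭 : Ideal A) [𝔭.IsPrime]
    (h𝔭 : ∀ a, a ∉ 𝔭 → ρ a ≠ 0) (𝔭B : Ideal B) [𝔭B.IsPrime]
    (h𝔭B : ∀ b, b ∈ 𝔭B ↔ algebraMap B A b ∈ 𝔭) [IsLocalization.AtPrime Bp 𝔭B]
    [IsLocalization.AtPrime Ap 𝔭] [IsDomain Bp] [Algebra.FormallySmooth R Bp]
    (t : B) (ht : ρ (algebraMap B A t) ≠ 0) (hkill : ∀ y, algebraMap B A y = 0 → t * y = 0) :
    Algebra.FormallySmooth R Ap := by
  have htBp : algebraMap B Bp t ≠ 0 := by
    intro h0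
    obtain ⟨s, hs⟩ := (IsLocalization.map_eq_zero_iff 𝔭B.primeCompl Bp t).mp h0
    have h1 : ρ (algebraMap B A (s : B)) * ρ (algebraMap B A t) = 0 := by
      rw [← map_mul, ← map_mul, hs, map_zero, map_zero]
    have h2 : ρ (algebraMap B A (s : B)) ≠ 0 := h𝔭 _ (fun h => s.2 ((h𝔭B _).mpr h))
    exact (mul_ne_zero h2 ht) h1
  haveI : IsLocalization.AtPrime Ap 𝔭B := by
    refine (isLocalization_iff _ _).mpr ⟨?_, ?_, ?_⟩
    · rintro ⟨y, hy⟩
      have hy' : algebraMap B A y ∈ 𝔭.primeCompl := fun h => hy ((h𝔭B y).mpr h)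
      show IsUnit (algebraMap B Ap y)
      rw [IsScalarTower.algebraMap_apply B A Ap]
      exact IsLocalization.map_units Ap (⟨_, hy'⟩ : 𝔭.primeCompl)
    · intro z
      obtain ⟨⟨a, s⟩, h⟩ := IsLocalization.surj 𝔭.primeCompl z
      obtain ⟨b, rfl⟩ := hπ a
      obtain ⟨s', hs'⟩ := hπ (s : A)
      have hs'p : s' ∈ 𝔭B.primeCompl := fun h => s.2 (by rw [← hs']; exact (h𝔭B s').mp h)
      refine ⟨(b, ⟨s', hs'p⟩), ?_⟩
      show z * algebraMap B Ap s' = algebraMap B Ap b
      rw [IsScalarTower.algebraMap_apply B A Ap, IsScalarTower.algebraMap_apply B A Ap, hs']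
      exact h
    · intro x y hxy
      rw [IsScalarTower.algebraMap_apply B A Ap, IsScalarTower.algebraMap_apply B A Ap] at hxy
      obtain ⟨u, hu⟩ := IsLocalization.exists_of_eq (M := 𝔭.primeCompl) hxy
      obtain ⟨u', hu'⟩ := hπ (u : A)
      have hu'p : u' ∉ 𝔭B := fun h => u.2 (by rw [← hu']; exact (h𝔭B u').mp h)
      have h1 : algebraMap B A (u' * (x - y)) = 0 := by
        rw [map_mul, map_sub, hu', mul_sub, hu, sub_self]
      have h2 : t * (u' * (x - y)) = 0 := hkill _ h1
      have h3 : algebraMap B Bp t * algebraMap B Bp (u' * (x - y)) = 0 := by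
        rw [← map_mul, h2, map_zero]
      have h4 : algebraMap B Bp (u' * (x - y)) = 0 :=
        (mul_eq_zero.mp h3).resolve_left htBp
      obtain ⟨c, hc⟩ := (IsLocalization.map_eq_zero_iff 𝔭B.primeCompl Bp _).mp h4
      refine ⟨⟨c * u', fun h => (Ideal.IsPrime.mem_or_mem ‹_› h).elim c.2 hu'p⟩, ?_⟩
      show (c : B) * u' * x = c * u' * y
      have : (c : B) * u' * x - c * u' * y = c * (u' * (x - y)) := by ring
      rw [← sub_eq_zero, this, hc]
  exact Algebra.FormallySmooth.of_equiv
    ((IsLocalization.algEquiv 𝔭B.primeCompl Bp Ap).restrictScalars R)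

/-- Over a regular base, if `B_b` is standard smooth then `B` is a domain and smooth at every prime
not containing `b`. -/
theorem regular_smooth_at {R : Type u} [CommRing R] [IsRegularRing R]
    {B : Type u} [CommRing B] [Algebra R B] [IsNoetherianRing B] [Algebra.FinitePresentation R B]
    (b : B) [Algebra.IsStandardSmooth R (Localization.Away b)] (𝔭B : Ideal B) [𝔭B.IsPrime]
    (hb : b ∉ 𝔭B) :
    IsDomain (Localization.AtPrime 𝔭B) ∧ Algebra.IsSmoothAt R 𝔭B := by
  constructor
  · haveI : IsNoetherianRing (Localization.Away b) :=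
      IsLocalization.isNoetherianRing (Submonoid.powers b) _ inferInstance
    haveI : IsRegularLocalRing (Localization.AtPrime 𝔭B) := by
      refine Groth.Agent.H8.J2.isRegularLocalRing_of_isLocalization (Submonoid.powers b)
        (Localization.Away b) 𝔭B ?_ ?_
      · rw [Set.disjoint_left]
        rintro x ⟨k, rfl⟩ hx
        exact hb (Ideal.IsPrime.mem_of_pow_mem ‹_› k hx)
      · intro Q' _ _
        exact Groth.Agent.H8.J2.isRegularLocalRing_of_smooth R (Localization.Away b) Q'
    exact Groth.Agent.H7.Reg.isDomain _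
  · have h1 : (PrimeSpectrum.basicOpen b : Set (PrimeSpectrum B)) ⊆ Algebra.smoothLocus R B :=
      Algebra.basicOpen_subset_smoothLocus_iff_smooth.mpr inferInstance
    exact h1 (show (⟨𝔭B, inferInstance⟩ : PrimeSpectrum B) ∈ PrimeSpectrum.basicOpen b from hb)

end Groth.Agent.H8.StdEl
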