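import Mathlib
import Groth.Agent.Lib.Helper8.StdEl.C
import Groth.Agent.Lib.Helper8.StdEl.K
import Groth.Agent.Lib.Helper8.StdEl.L
import Groth.Agent.Lib.Helper8.StdEl.M

set_option autoImplicit false
universe u
open MvPolynomial TensorProduct

namespace Groth.Agent.H8.StdEl

/-- S6841: smoothness at the closed point from freeness of `Λ ⊗ Ω`. -/
theorem smooth_closed_point {R Λ A : Type u} [CommRing R] [IsDomain R] [IsDiscreteValuationRing R]
    [CommRing Λ] [IsDomain Λ] [IsDiscreteValuationRing Λ] [Algebra R Λ] [CommRing A] [Algebra R A]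
    [Algebra.FiniteType R A] [Algebra A Λ] [IsScalarTower R A Λ]
    [(RingHom.ker (algebraMap A Λ)).IsPrime]
    (hq : Algebra.IsSmoothAt R (RingHom.ker (algebraMap A Λ)))
    (hfree : Module.Free Λ (Λ ⊗[A] Ω[A⁄R])) :
    Algebra.IsSmoothAt R ((IsLocalRing.maximalIdeal Λ).comap (algebraMap A Λ)) := by
  classical
  obtain ⟨n, φ, hφ⟩ := Algebra.FiniteType.iff_quotient_mvPolynomial''.mp
    (inferInstance : Algebra.FiniteType R A)
  have hfg : (RingHom.ker φ.toRingHom).FG :=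
    (isNoetherianRing_iff_ideal_fg _).mp inferInstance _
  obtain ⟨m, g, hg⟩ := Submodule.fg_iff_exists_fin_generating_family.mp hfg
  have hker : RingHom.ker φ.toRingHom = Ideal.span (Set.range g) := hg.symm
  let ρ : MvPolynomial (Fin n) R →+* Λ := (algebraMap A Λ).comp φ.toRingHom
  have hρ : ∀ x, ρ x = algebraMap A Λ (φ x) := fun x => rfl
  obtain ⟨I, hIdef⟩ : ∃ I : Ideal (MvPolynomial (Fin n) R), I = Ideal.span (Set.range g) :=
    ⟨_, rfl⟩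
  have hImem : ∀ x, x ∈ I ↔ φ x = 0 := fun x => by rw [hIdef, ← hker]; exact Iff.rfl
  have hgI : ∀ ℓ, g ℓ ∈ I := fun ℓ => by rw [hIdef]; exact Ideal.subset_span ⟨ℓ, rfl⟩
  have hρg : ∀ ℓ, ρ (g ℓ) = 0 := fun ℓ => by rw [hρ, (hImem _).mp (hgI ℓ), map_zero]
  -- linear algebra over Λ
  let W : Fin m → Fin n → Λ := fun ℓ => grad (Λ := Λ) φ (g ℓ)
  obtain ⟨c, rows, cols, hunit, hspan⟩ := exists_rows_cols W (piMap φ) (piMap_surjective φ hφ)
    (ker_piMap φ hφ g hker)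
  -- the primes
  obtain ⟨q, hqdef⟩ : ∃ q : Ideal A, q = RingHom.ker (algebraMap A Λ) := ⟨_, rfl⟩
  haveI hqprime : q.IsPrime := by rw [hqdef]; infer_instance
  haveI hqsm : Algebra.IsSmoothAt R q := by subst hqdef; exact hq
  obtain ⟨Q, hQdef⟩ : ∃ Q : Ideal (MvPolynomial (Fin n) R), Q = q.comap φ.toRingHom := ⟨_, rfl⟩
  have hQmem : ∀ x, x ∈ Q ↔ φ x ∈ q := fun x => by rw [hQdef]; exact Iff.rfl
  have hQρ : ∀ x, x ∈ Q ↔ ρ x = 0 := fun x => by rw [hQmem, hqdef]; exact Iff.rfl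
  haveI hQprime : Q.IsPrime := by rw [hQdef]; exact Ideal.comap_isPrime _ _
  have hIQ : I ≤ Q := fun x hx => (hQρ x).mpr (by rw [hρ, (hImem x).mp hx, map_zero])
  -- the minor
  obtain ⟨Δ, hΔdef⟩ : ∃ Δ : MvPolynomial (Fin n) R,
      Δ = Matrix.det (Matrix.of fun j k => pderiv (cols k) (g (rows j))) := ⟨_, rfl⟩
  have hρΔ : ρ Δ = Matrix.det (Matrix.of fun j k => W (rows j) (cols k)) := by
    rw [hΔdef, RingHom.map_det]; rfl
  have hΔQ : Δ ∉ Q := fun h => by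
    have h0 := (hQρ _).mp h
    rw [hρΔ] at h0
    exact hunit.ne_zero h0
  obtain ⟨Ic, hIcdef⟩ : ∃ Ic : Ideal (MvPolynomial (Fin n) R),
      Ic = Ideal.span (Set.range (g ∘ rows)) := ⟨_, rfl⟩
  have hIcI : Ic ≤ I := by
    rw [hIcdef, Ideal.span_le]
    rintro _ ⟨j, rfl⟩
    exact hgI _
  have hstep : ∀ ℓ, ∃ s : MvPolynomial (Fin n) R, s ∉ Q ∧ s * g ℓ ∈ Ic ⊔ Q * I := by
    intro ℓ
    obtain ⟨r, hr⟩ := exists_comb g ρ hρg rows cols ℓ (hspan ℓ)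
    rw [← hΔdef] at hr
    have hpI : Δ * g ℓ - ∑ j, r j * g (rows j) ∈ I :=
      I.sub_mem (I.mul_mem_left _ (hgI ℓ)) (I.sum_mem fun j _ => I.mul_mem_left _ (hgI _))
    obtain ⟨s, hsQ, hsp⟩ := exists_smul_mem_mul φ hφ q Q I hQmem hImem _ hpI
      (fun i => (hQρ _).mpr (hr i))
    refine ⟨s * Δ, fun h => (hQprime.mem_or_mem h).elim hsQ hΔQ, ?_⟩
    have h1 : s * Δ * g ℓ = ∑ j, (s * r j) * g (rows j) +
        s * (Δ * g ℓ - ∑ j, r j * g (rows j)) := by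
      simp only [mul_sub, Finset.mul_sum, mul_assoc]; ring
    rw [h1, hIcdef]
    exact Ideal.add_mem _ (Ideal.mem_sup_left (Ideal.sum_mem _ fun j _ =>
      Ideal.mul_mem_left _ _ (Ideal.subset_span ⟨j, rfl⟩))) (Ideal.mem_sup_right hsp)
  have hloc := nakayama_aux Q I Ic g hIdef hstep
  choose t htQ ht using hloc
  obtain ⟨tt, httdef⟩ : ∃ tt : MvPolynomial (Fin n) R, tt = ∏ ℓ, t ℓ := ⟨_, rfl⟩
  have httQ : tt ∉ Q := fun h => by
    rw [httdef] at h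
    obtain ⟨ℓ, -, hℓ⟩ := (Ideal.IsPrime.prod_mem_iff).mp h
    exact htQ ℓ hℓ
  have htt : ∀ ℓ, tt * g ℓ ∈ Ic := by
    intro ℓ
    rw [httdef, ← Finset.prod_erase_mul _ _ (Finset.mem_univ ℓ), mul_assoc]
    exact Ideal.mul_mem_left _ _ (ht ℓ)
  have httI : ∀ p ∈ I, tt * p ∈ Ic := by
    intro p hp
    rw [hIdef] at hp
    refine Submodule.span_induction (p := fun p _ => tt * p ∈ Ic) ?_ ?_ ?_ ?_ hp
    · rintro _ ⟨ℓ, rfl⟩; exact htt ℓ
    · rw [mul_zero]; exact Ic.zero_mem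
    · intro x y _ _ hx hy; rw [mul_add]; exact Ic.add_mem hx hy
    · intro a x _ hx; rw [smul_eq_mul, mul_left_comm]; exact Ic.mul_mem_left _ hx
  -- the smooth cover
  subst hIcdef
  let π : (MvPolynomial (Fin n) R ⧸ Ideal.span (Set.range (g ∘ rows))) →ₐ[R] A :=
    Ideal.Quotient.liftₐ _ φ (fun p hp => (hImem p).mp (hIcI hp))
  have hπmk : ∀ p, π (Ideal.Quotient.mk _ p) = φ p := fun p => rfl
  have hπsurj : Function.Surjective π := fun y => by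
    obtain ⟨p, rfl⟩ := hφ y
    exact ⟨Ideal.Quotient.mk _ p, rfl⟩
  haveI hstd : Algebra.IsStandardSmooth R (Localization.Away
      (Ideal.Quotient.mk (Ideal.span (Set.range (g ∘ rows))) Δ)) := by
    rw [hΔdef]
    exact isStandardSmooth_away_minor (g ∘ rows) cols cols.injective
  obtain ⟨𝔭, h𝔭def⟩ : ∃ 𝔭 : Ideal A, 𝔭 = (IsLocalRing.maximalIdeal Λ).comap (algebraMap A Λ) :=
    ⟨_, rfl⟩
  haveI h𝔭prime : 𝔭.IsPrime := by rw [h𝔭def]; exact Ideal.comap_isPrime _ _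
  have h𝔭mem : ∀ a, a ∈ 𝔭 ↔ algebraMap A Λ a ∈ IsLocalRing.maximalIdeal Λ := fun a => by
    rw [h𝔭def]; exact Iff.rfl
  obtain ⟨𝔭B, h𝔭Bdef⟩ : ∃ 𝔭B : Ideal (MvPolynomial (Fin n) R ⧸ Ideal.span (Set.range (g ∘ rows))),
      𝔭B = 𝔭.comap π.toRingHom := ⟨_, rfl⟩
  haveI h𝔭Bprime : 𝔭B.IsPrime := by rw [h𝔭Bdef]; exact Ideal.comap_isPrime _ _
  have h𝔭Bmem : ∀ b, b ∈ 𝔭B ↔ π b ∈ 𝔭 := fun b => by rw [h𝔭Bdef]; exact Iff.rfl
  have hΔ𝔭 : Ideal.Quotient.mk (Ideal.span (Set.range (g ∘ rows))) Δ ∉ 𝔭B := by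
    rw [h𝔭Bmem, hπmk, h𝔭mem, ← hρ, hρΔ]
    exact fun h => (IsLocalRing.mem_maximalIdeal _).mp h hunit
  haveI : Algebra.FinitePresentation R
      (MvPolynomial (Fin n) R ⧸ Ideal.span (Set.range (g ∘ rows))) :=
    Algebra.FinitePresentation.quotient (Submodule.fg_span (Set.finite_range _))
  obtain ⟨hdom, hsm⟩ := regular_smooth_at (R := R) _ 𝔭B hΔ𝔭
  haveI := hdom
  haveI := hsm
  letI : Algebra (MvPolynomial (Fin n) R ⧸ Ideal.span (Set.range (g ∘ rows))) A :=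
    π.toRingHom.toAlgebra
  haveI : IsScalarTower R (MvPolynomial (Fin n) R ⧸ Ideal.span (Set.range (g ∘ rows))) A :=
    IsScalarTower.of_algebraMap_eq fun r => (π.commutes r).symm
  have hfin : Algebra.FormallySmooth R (Localization.AtPrime 𝔭) := by
    refine formallySmooth_of_cover (Bp := Localization.AtPrime 𝔭B) (Ap := Localization.AtPrime 𝔭)
      (Λ := Λ) hπsurj (algebraMap A Λ) 𝔭 ?_ 𝔭B h𝔭Bmem (Ideal.Quotient.mk _ tt) ?_ ?_
    · intro a ha h0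
      apply ha
      rw [h𝔭mem, h0]
      exact Ideal.zero_mem _
    · show algebraMap A Λ (π (Ideal.Quotient.mk _ tt)) ≠ 0
      rw [hπmk, ← hρ]
      exact fun h => httQ ((hQρ _).mpr h)
    · intro y hy
      obtain ⟨p, rfl⟩ := Ideal.Quotient.mk_surjective y
      have hp : p ∈ I := (hImem p).mpr hy
      rw [← map_mul, Ideal.Quotient.eq_zero_iff_mem]
      exact httI p hp
  subst h𝔭def
  exact hfin

end Groth.Agent.H8.StdEl
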